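import Groth.Agent.H4DR.TorAmp.PerfectChange
import Groth.Agent.H06EGA11.KernelFP
import Groth.Agent.H8Props.FlatKernel
import Groth.Agent.H8Props.PseudoCoh.Bridge
import Groth.Prelude.Def_DualSh

/-!
# Relatively perfect objects of `D(A)` for a flat ring map `R → A`

`K` is `R`-perfect iff it is represented by a bounded complex of finitely presented `A`-modules
which are flat over `R`.
-/

set_option autoImplicit false
set_option linter.style.haveILetI false

universe u

open CategoryTheory CategoryTheory.Limits MonoidalCategory Pretriangulated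
open Groth.Agent.H4DR

attribute [local instance] HasDerivedCategory.standard

namespace Groth.Agent.H26Dual2

open Groth.Agent.H4DR.KFlatMod (bi)

variable (R A : Type u) [CommRing R] [CommRing A] [Algebra R A]

/-- Restriction of scalars from `A` to `R`. -/
noncomputable abbrev res : ModuleCat.{u} A ⥤ ModuleCat.{u} R :=
  ModuleCat.restrictScalars.{u} (algebraMap R A)

/-- Restriction of scalars on complexes. -/
noncomputable abbrev resCx : DRing.Cx A ⥤ DRing.Cx R :=
  (res R A).mapHomologicalComplex (ComplexShape.up ℤ)

/-- `restrictD` on representatives. -/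
noncomputable def restrictToD (E : DRing.Cx A) :
    (DRing.restrictD (algebraMap R A)).obj (DRing.toD E) ≅ DRing.toD ((resCx R A).obj E) :=
  (res R A).mapDerivedCategoryFactors.app E

variable {R A}

lemma flat_res_of_flat [Module.Flat R A] (M : ModuleCat.{u} A) [Module.Flat A M] :
    Module.Flat R ((res R A).obj M) := by
  letI : Module R M := Module.compHom M (algebraMap R A)
  haveI : IsScalarTower R A M := .of_algebraMap_smul fun _ _ => rfl
  exact Module.Flat.trans R A M

lemma ta_restrict_flat [Module.Flat R A] {a b : ℤ} {K : Dual.D A}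
    (h : DRing.HasTorAmplitudeIn A a b K) :
    DRing.HasTorAmplitudeIn R a b ((DRing.restrictD (algebraMap R A)).obj K) := by
  have hA : DRing.HasTorAmplitudeIn R (-((0 : ℕ) : ℤ)) 0 (Dual.inD R A) := by
    simpa using TorAmp.ta_of_flat (ModuleCat.of R A)
  simpa using TorAmp.ta_restrict hA h

theorem isRelPerfect_of_isPerfect [Module.Flat R A] {K : Dual.D A} (hK : DRing.IsPerfect A K) :
    Dual2.IsRelPerfect R A K := by
  obtain ⟨h, a, b, hT⟩ := TorAmp.isPerfect_iff.1 hK
  exact ⟨h, a, b, ta_restrict_flat hT⟩

/-- A finitely presented module which is flat over `R` has finite free syzygies of all orders. -/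
theorem fpk_of_relFlat [Module.Flat R A] [Algebra.FinitePresentation R A] :
    ∀ (k : ℕ) (M : Type u) [AddCommGroup M] [Module A M] [Module R M] [IsScalarTower R A M]
      [Module.FinitePresentation A M] [Module.Flat R M], H8Props.PseudoCoh.FPk A k M
  | 0, M, _, _, _, _, _, _ => show Module.Finite A M from inferInstance
  | k + 1, M, _, _, _, _, _, _ => by
    obtain ⟨n, π, hπ⟩ := Module.Finite.exists_fin' A M
    haveI : Module.Flat R (Fin n → A) := Module.Flat.trans R A (Fin n → A)
    haveI : Module.FinitePresentation A (LinearMap.ker π) :=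
      H06EGA11.finitePresentation_ker (A := R) π hπ
    haveI : Module.Flat R (LinearMap.ker π) :=
      H8Props.flat_of_exact ((LinearMap.ker π).subtype.restrictScalars R) (π.restrictScalars R)
        Subtype.val_injective (fun x => π.exact_subtype_ker_map x) hπ
    exact ⟨n, π, hπ, fpk_of_relFlat k _⟩

theorem pcModule_of_relFlat [Module.Flat R A] [Algebra.FinitePresentation R A]
    (M : ModuleCat.{u} A) [Module.FinitePresentation A M] (hM : Module.Flat R ((res R A).obj M)) :
    DRing.IsPseudoCoherentModule' A M := by
  letI : Module R M := Module.compHom M (algebraMap R A)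
  haveI : IsScalarTower R A M := .of_algebraMap_smul fun _ _ => rfl
  haveI : Module.Flat R M := hM
  exact H8Props.PseudoCoh.isPseudoCoherentModule'_of_fpInf fun k => fpk_of_relFlat (R := R) k M

/-- Bounded complexes of finitely presented, `R`-flat modules are `R`-perfect. -/
theorem isRelPerfect_of_cx [Module.Flat R A] [Algebra.FinitePresentation R A]
    (E : DRing.Cx A) {a b : ℤ} (hE : DRing.VanishesOutside E a b)
    (h : ∀ i, Module.FinitePresentation A (E.X i) ∧ Module.Flat R ((res R A).obj (E.X i))) :
    Dual2.IsRelPerfect R A (DRing.toD E) := by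
  refine ⟨PCoh.pc'_of_forall fun m => ?_, a, b, (resCx R A).obj E,
    fun i hi => (res R A).map_isZero (hE i hi), fun i => (h i).2, ⟨(restrictToD R A E).symm⟩⟩
  refine PCoh.pc_of_terms (b + 1 - m).toNat (fun i hi => hE i (by omega)) fun i => ?_
  haveI := (h i).1
  exact PCoh.pc_of_pc' (pcModule_of_relFlat (E.X i) (h i).2) _

lemma finitePresentation_opcycles {F : DRing.Cx A} (hF : DRing.TermwiseFiniteFree F) (a : ℤ) :
    Module.FinitePresentation A (F.opcycles a) := by
  haveI := (hF (a - 1)).1
  haveI := (hF a).1
  haveI := (hF a).2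
  haveI : Module.FinitePresentation A (F.X a) := Module.finitePresentation_of_projective A (F.X a)
  haveI : Module.FinitePresentation A
      ((F.X a) ⧸ LinearMap.range (F.d (a - 1) a).hom) :=
    Module.finitePresentation_of_surjective (Submodule.mkQ _) (Submodule.mkQ_surjective _)
      (by rw [Submodule.ker_mkQ]; exact (Submodule.fg_range (F.d (a - 1) a).hom))
  haveI : Module.FinitePresentation A (ModuleCat.cokernelCocone (F.d (a - 1) a)).pt :=
    ‹Module.FinitePresentation A ((F.X a) ⧸ LinearMap.range (F.d (a - 1) a).hom)›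
  exact Module.FinitePresentation.of_equiv
    (IsColimit.coconePointUniqueUpToIso (F.opcyclesIsCokernel (a - 1) a (by simp))
      (ModuleCat.cokernelIsColimit (F.d (a - 1) a))).toLinearEquiv.symm

lemma flat_of_termwiseFree [Module.Flat R A] {F : DRing.Cx A} (hF : DRing.TermwiseFiniteFree F) :
    DRing.TermwiseFlat ((resCx R A).obj F) := fun i =>
  haveI := (hF i).2
  flat_res_of_flat (F.X i)

/-- An `R`-perfect object has a bounded representative by finitely presented `R`-flat modules. -/
theorem exists_cx [Module.Flat R A] {K : Dual.D A} (h : Dual2.IsRelPerfect R A K) :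
    ∃ (E : DRing.Cx A) (a b : ℤ), DRing.VanishesOutside E a b ∧
      (∀ i, Module.FinitePresentation A (E.X i) ∧ Module.Flat R ((res R A).obj (E.X i))) ∧
      Nonempty (DRing.toD E ≅ K) := by
  obtain ⟨⟨F, c, hc, hF, ⟨e⟩⟩, a, b, hT⟩ := h
  have hbF : DRing.VanishesAbove ((resCx R A).obj F) c := fun i hi => (res R A).map_isZero (hc i hi)
  have hex : ∀ (M : ModuleCat.{u} R) (i : ℤ), i < a →
      ((TorAmp.tens M).obj ((resCx R A).obj F)).ExactAt i := fun M i hi =>
    (TorAmp.tv_of_ta hT).exactAt hbF (flat_of_termwiseFree hF)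
      ((restrictToD R A F).symm ≪≫ (DRing.restrictD (algebraMap R A)).mapIso e) M (Or.inl hi)
  haveI : F.IsGE a := (CochainComplex.isGE_iff F a).2 fun i hi =>
    (TorAmp.exactAt_restrict_iff (algebraMap R A) F i).1
      (TorAmp.exactAt_of_exactAt_tens_unit (hex _ i hi))
  refine ⟨F.truncGE a, a, max a c, fun i hi => ?_, fun i => ?_,
    ⟨(asIso (DerivedCategory.Q.map (F.πTruncGE a))).symm ≪≫ e⟩⟩
  · rcases hi with hi | hi
    · exact (F.truncGE a).isZero_of_isStrictlyGE a i hi
    · exact (hc i (by omega)).of_iso (F.truncGEXIso a i (by omega))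
  · rcases lt_trichotomy a i with h | rfl | h
    · haveI := (hF i).1
      haveI := (hF i).2
      haveI : Module.FinitePresentation A (F.X i) := Module.finitePresentation_of_projective A (F.X i)
      have hfl : Module.Flat R ((res R A).obj (F.X i)) := flat_of_termwiseFree (R := R) hF i
      exact ⟨Module.FinitePresentation.of_equiv (F.truncGEXIso a i h).toLinearEquiv.symm,
        @Module.Flat.of_linearEquiv _ _ _ _ _ _ _ _ hfl
          ((res R A).mapIso (F.truncGEXIso a i h)).toLinearEquiv⟩
    · haveI := finitePresentation_opcycles hF a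
      haveI hfl : Module.Flat R (((resCx R A).obj F).opcycles a) :=
        TorAmp.flat_opcycles (flat_of_termwiseFree hF) a fun M => hex M (a - 1) (by omega)
      let eo : ((resCx R A).obj F).opcycles a ≅ (res R A).obj (F.opcycles a) :=
        (F.sc a).mapOpcyclesIso (res R A)
      exact ⟨Module.FinitePresentation.of_equiv (F.truncGEXIsoOpcycles a).toLinearEquiv.symm,
        Module.Flat.of_linearEquiv
          ((res R A).mapIso (F.truncGEXIsoOpcycles a) ≪≫ eo.symm).toLinearEquiv⟩
    · have hz := (F.truncGE a).isZero_of_isStrictlyGE a i h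
      haveI := ModuleCat.subsingleton_of_isZero hz
      haveI := ModuleCat.subsingleton_of_isZero ((res R A).map_isZero hz)
      exact ⟨Module.finitePresentation_of_projective A _, inferInstance⟩

theorem isRelPerfect_iff [Module.Flat R A] [Algebra.FinitePresentation R A] (K : Dual.D A) :
    Dual2.IsRelPerfect R A K ↔
      ∃ (E : DRing.Cx A) (a b : ℤ), DRing.VanishesOutside E a b ∧
        (∀ i, Module.FinitePresentation A (E.X i) ∧ Module.Flat R ((res R A).obj (E.X i))) ∧
        Nonempty (DRing.toD E ≅ K) := by
  refine ⟨exists_cx, fun ⟨E, a, b, hE, h, ⟨e⟩⟩ => ?_⟩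
  obtain ⟨hp, a', b', hT⟩ := isRelPerfect_of_cx (R := R) E hE h
  exact ⟨PCoh.pc'_of_forall fun m => PCoh.pc_of_iso e (PCoh.pc_of_pc' hp m), a', b',
    TorAmp.ta_of_iso ((DRing.restrictD (algebraMap R A)).mapIso e) hT⟩

end Groth.Agent.H26Dual2
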