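import Groth.Agent.H26Dual2.PolyStep
import Groth.Agent.H16Derived.InjDim
import Groth.Agent.H16Derived.KInjRes.Main
import Mathlib.Algebra.Category.ModuleCat.EnoughInjectives
import Mathlib.CategoryTheory.Adjunction.PartialAdjoint

/-!
# Restriction of scalars on derived categories has a right adjoint
-/

set_option autoImplicit false
set_option linter.style.haveILetI false

universe u

open CategoryTheory CategoryTheory.Limits Opposite

attribute [local instance] HasDerivedCategory.standard

namespace Groth.Agent.H26Dual2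

variable {P A : Type u} [CommRing P] [CommRing A] (ψ : P →+* A)

/-- Coextension of scalars. -/
noncomputable abbrev coF : ModuleCat.{u} P ⥤ ModuleCat.{u} A := ModuleCat.coextendScalars.{u} ψ

instance : (coF ψ).Additive :=
  haveI := (ModuleCat.restrictCoextendScalarsAdj.{u, u, u} ψ).isRightAdjoint
  Functor.additive_of_preserves_binary_products _

/-- On complexes. -/
noncomputable abbrev coCx : DRing.Cx P ⥤ DRing.Cx A :=
  (coF ψ).mapHomologicalComplex (ComplexShape.up ℤ)

/-- The adjunction on complexes. -/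
noncomputable abbrev coAdj : reCx ψ ⊣ coCx ψ :=
  H16Derived.mapHomologicalComplexAdj (ModuleCat.restrictCoextendScalarsAdj.{u, u, u} ψ)
    (ComplexShape.up ℤ)

lemma nonempty_homotopy_coAdj (X : DRing.Cx A) (I : DRing.Cx P) (f : X ⟶ (coCx ψ).obj I) :
    Nonempty (Homotopy f 0) ↔ Nonempty (Homotopy (((coAdj ψ).homEquiv _ _).symm f) 0) := by
  constructor
  · rintro ⟨h⟩
    rw [Adjunction.homEquiv_counit]
    exact ⟨(((reF ψ).mapHomotopy h).compRight _).trans
      (Homotopy.ofEq (by rw [Functor.map_zero]; exact Limits.zero_comp))⟩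
  · rintro ⟨h⟩
    have e : f = (coAdj ψ).unit.app X ≫ (coCx ψ).map (((coAdj ψ).homEquiv _ _).symm f) := by
      exact (((coAdj ψ).homEquiv X I).apply_symm_apply f).symm.trans ((coAdj ψ).homEquiv_unit (f := _))
    exact ⟨(Homotopy.ofEq e).trans ((((coF ψ).mapHomotopy h).compLeft _).trans
      (Homotopy.ofEq (by rw [Functor.map_zero]; exact Limits.comp_zero)))⟩

instance isKInjective_coCx (I : DRing.Cx P) [I.IsKInjective] :
    CochainComplex.IsKInjective ((coCx ψ).obj I) where
  nonempty_homotopy_zero {K} f hK := (nonempty_homotopy_coAdj ψ K I f).2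
    ⟨CochainComplex.IsKInjective.homotopyZero _ fun n => (hK n).map (reF ψ)⟩

/-- Restriction of scalars has a derived right adjoint. -/
theorem isLeftAdjoint_TD : (TD ψ).IsLeftAdjoint := by
  apply Functor.isLeftAdjoint_of_rightAdjointObjIsDefined_eq_top
  ext Y
  simp only [Pi.top_apply, Prop.top_eq_true, iff_true]
  rw [Functor.rightAdjointObjIsDefined_iff]
  obtain ⟨Y₀, ⟨eY⟩⟩ : ∃ Y₀ : DRing.Cx P, Nonempty (DRing.toD Y₀ ≅ Y) :=
    ⟨_, ⟨DerivedCategory.Q.objObjPreimageIso Y⟩⟩
  obtain ⟨N, j, hN⟩ := H16Derived.KInjRes.exists_resolution_functor (A := ModuleCat.{u} P)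
  obtain ⟨-, hq, hI, -⟩ := hN Y₀
  haveI : IsIso (DerivedCategory.Q.map (j.app Y₀)) :=
    Localization.inverts DerivedCategory.Q
      (HomologicalComplex.quasiIso (ModuleCat.{u} P) (ComplexShape.up ℤ)) _ hq
  let eI : DRing.toD (N.obj Y₀) ≅ Y := (asIso (DerivedCategory.Q.map (j.app Y₀))).symm ≪≫ eY
  haveI := hI
  let J : DRing.Cx A := (coCx ψ).obj (N.obj Y₀)
  let ε : (TD ψ).obj (DRing.toD J) ⟶ Y :=
    ((reF ψ).mapDerivedCategoryFactors.app J).hom ≫
      DerivedCategory.Q.map ((coAdj ψ).counit.app (N.obj Y₀)) ≫ eI.hom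
  have hbij : ∀ X : Dual.D A,
      Function.Bijective (fun u : X ⟶ DRing.toD J => (TD ψ).map u ≫ ε) := by
    suffices h : ∀ X₀ : DRing.Cx A,
        Function.Bijective (fun u : DRing.toD X₀ ⟶ DRing.toD J => (TD ψ).map u ≫ ε) by
      intro X
      obtain ⟨X₀, ⟨e⟩⟩ : ∃ X₀ : DRing.Cx A, Nonempty (DRing.toD X₀ ≅ X) :=
        ⟨_, ⟨DerivedCategory.Q.objObjPreimageIso X⟩⟩
      refine ⟨fun u v huv => ?_, fun w => ?_⟩
      · rw [← cancel_epi e.hom]
        refine (h X₀).1 ?_
        dsimp only
        rw [Functor.map_comp, Functor.map_comp, Category.assoc, Category.assoc]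
        exact congrArg (_ ≫ ·) huv
      · obtain ⟨u, hu⟩ := (h X₀).2 ((TD ψ).map e.hom ≫ w)
        refine ⟨e.inv ≫ u, ?_⟩
        dsimp only at hu ⊢
        rw [Functor.map_comp, Category.assoc, hu, ← Functor.map_comp_assoc, e.inv_hom_id,
          CategoryTheory.Functor.map_id, Category.id_comp]
    intro X₀
    have key : ∀ g : X₀ ⟶ J, (TD ψ).map (DerivedCategory.Q.map g) ≫ ε =
        ((reF ψ).mapDerivedCategoryFactors.app X₀).hom ≫
          DerivedCategory.Q.map (((coAdj ψ).homEquiv _ _).symm g) ≫ eI.hom := by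
      intro g
      have h1 := (reF ψ).mapDerivedCategoryFactors.hom.naturality g
      simp only [Functor.comp_map] at h1
      rw [Adjunction.homEquiv_counit, Functor.map_comp, Category.assoc]
      exact (reassoc_of% h1) _
    refine ⟨?_, fun w => ?_⟩
    · rintro u v huv
      obtain ⟨gu, rfl⟩ := H16Derived.InjDim.exists_chain_map J X₀ u
      obtain ⟨gv, rfl⟩ := H16Derived.InjDim.exists_chain_map J X₀ v
      dsimp only at huv
      rw [key, key, cancel_epi, cancel_mono, ← sub_eq_zero, ← Functor.map_sub] at huv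
      obtain ⟨hh⟩ := H16Derived.InjDim.homotopic_zero_of_Q_map (N.obj Y₀) _ _ huv
      have h2 : ((coAdj ψ).homEquiv X₀ (N.obj Y₀)).symm (gu - gv) =
          ((coAdj ψ).homEquiv _ _).symm gu - ((coAdj ψ).homEquiv _ _).symm gv := by
        simp only [Adjunction.homEquiv_counit]
        rw [Functor.map_sub, Preadditive.sub_comp]
      obtain ⟨hh'⟩ := (nonempty_homotopy_coAdj ψ X₀ (N.obj Y₀) (gu - gv)).2 (h2 ▸ ⟨hh⟩)
      rw [← sub_eq_zero, ← Functor.map_sub, DerivedCategory.Q_map_eq_of_homotopy (h := hh'),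
        Functor.map_zero]
    · obtain ⟨g', hg'⟩ := H16Derived.InjDim.exists_chain_map (N.obj Y₀) ((reCx ψ).obj X₀)
        (((reF ψ).mapDerivedCategoryFactors.app X₀).inv ≫ w ≫ eI.inv)
      refine ⟨DerivedCategory.Q.map ((coAdj ψ).homEquiv _ _ g'), ?_⟩
      dsimp only
      rw [key, Equiv.symm_apply_apply, hg']
      simp
  exact Functor.RepresentableBy.isRepresentable
    { homEquiv := fun {X} => Equiv.ofBijective _ (hbij X)
      homEquiv_comp := fun {X X'} f g => by
        simp only [Equiv.ofBijective_apply, Functor.map_comp, Category.assoc]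
        rfl }

end Groth.Agent.H26Dual2
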