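import Groth.Agent.H26Dual2.BcSquare
import Groth.Agent.H26Dual2.RightAdj
import Groth.Agent.H4DR.PCoh.Attach

/-!
# Flat base change of the right adjoint of restriction along a finite map
-/

set_option autoImplicit false
set_option linter.style.haveILetI false

universe u

open CategoryTheory CategoryTheory.Limits Pretriangulated Opposite

attribute [local instance] HasDerivedCategory.standard

namespace Groth.Agent.H26Dual2

variable {P Q A B : Type u} [CommRing P] [CommRing Q] [CommRing A] [CommRing B]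

lemma beta_bijective_S (φ : P →+* Q) [PreservesFiniteLimits (exF φ)] (hflat : φ.Flat) (k : ℤ)
    (Z : Dual.D P) : Function.Bijective (beta φ (H25DTen.S P k) Z) := by
  let e : DRing.toD (sglP P (-k)) ≅ H25DTen.S P k :=
    DerivedCategory.Q.mapIso (H25DTen.singleUnitIso (-k)) ≪≫ eqToIso (by rw [neg_neg])
  exact beta_bijective_of_retract φ Z e.inv e.hom e.inv_hom_id (beta_bijective_sgl φ hflat Z _)

lemma pc_TD_S [IsNoetherianRing P] {ψ : P →+* A} (hψ : ψ.Finite) (k m : ℤ) :
    DRing.IsPseudoCoherent P m ((TD ψ).obj (H25DTen.S A k)) := by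
  let M : ModuleCat.{u} P := (reF ψ).obj (ModuleCat.of A A)
  haveI : Module.Finite P M := hψ
  haveI : Module.Finite P ((𝟭 (ModuleCat.{u} P)).obj M) := hψ
  let X := (HomologicalComplex.single (ModuleCat.{u} P) (ComplexShape.up ℤ) (-k)).obj M
  let e : DRing.toD X ≅ (TD ψ).obj (H25DTen.S A k) :=
    DerivedCategory.Q.mapIso ((HomologicalComplex.singleMapHomologicalComplex (reF ψ)
        (ComplexShape.up ℤ) (-k)).app (ModuleCat.of A A)).symm ≪≫
      ((reF ψ).mapDerivedCategoryFactors.app _).symm ≪≫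
      (TD ψ).mapIso (DerivedCategory.Q.mapIso (H25DTen.singleUnitIso (-k)) ≪≫ eqToIso (by rw [neg_neg]))
  refine H4DR.PCoh.pc_of_iso e (H4DR.PCoh.pc_of_finite (-k - m).natAbs.succ ?_ ?_)
  · intro i hi
    refine H4DR.PCoh.subsingleton_HD_single M (-k) i ?_
    intro h
    subst h
    omega
  · intro i _
    by_cases h : i = -k
    · subst h
      exact Module.Finite.equiv ((((DerivedCategory.homologyFunctorFactors (ModuleCat.{u} P) (-k)).app X) ≪≫
        (HomologicalComplex.homologyFunctorSingleIso (ModuleCat.{u} P) (ComplexShape.up ℤ) (-k)).app M).toLinearEquiv).symm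
    · haveI := H4DR.PCoh.subsingleton_HD_single M (-k) i h
      infer_instance

/-- Flat base change of `RHom_P(A, -)` on objects bounded below, `A` finite over the Noetherian ring `P`. -/
theorem isIso_theta_of_finite [IsNoetherianRing P] {φ : P →+* Q} {φ' : A →+* B} {ψ : P →+* A}
    {χ : Q →+* B} (hsq : χ.comp φ = φ'.comp ψ) (h : IsCocart hsq) (hψ : ψ.Finite)
    [PreservesFiniteLimits (exF φ)] [PreservesFiniteLimits (exF φ')] (hφ : φ.Flat) (hφ' : φ'.Flat)
    {Rψ : Dual.D P ⥤ Dual.D A} (adj : TD ψ ⊣ Rψ) {Rχ : Dual.D Q ⥤ Dual.D B} (adjχ : TD χ ⊣ Rχ)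
    (Y : Dual.D P) {c : ℤ} (hY : ∀ i, i < c → Subsingleton (Dual.HD P Y i)) :
    IsIso (theta hsq h adj adjχ Y) :=
  isIso_theta hsq h adj adjχ Y (fun k => beta_bijective_of_pc φ hφ (fun m => pc_TD_S hψ k m) hY)
    fun k => beta_bijective_S φ' hφ' k _

/-- A left adjoint of flat restriction preserves lower bounds. -/
lemma subsingleton_leftAdjoint {φ : P →+* Q} (hφ : φ.Flat) {G : Dual.D P ⥤ Dual.D Q} (adj : G ⊣ TD φ)
    {K : Dual.D P} {i : ℤ} (hK : Subsingleton (Dual.HD P K i)) :
    Subsingleton (Dual.HD Q (G.obj K) i) := by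
  haveI : PreservesFiniteLimits (exF φ) := ModuleCat.preservesFiniteLimits_extendScalars_of_flat hφ
  haveI : Subsingleton (Dual.HD Q ((GD φ).obj K) i) := H4DR.PCoh.subsingleton_map (exF φ) hK
  exact (H4DR.PCoh.hEquiv i ((adj.leftAdjointUniq (gtAdj φ)).app K)).injective.subsingleton

/-- Lower bounds and shifts. -/
lemma vanish_shift {K : Dual.D P} {c : ℤ} (n : ℤ) (hK : ∀ i, i < c → Subsingleton (Dual.HD P K i)) :
    ∀ i, i < c - n → Subsingleton (Dual.HD P (K⟦n⟧) i) := fun i hi =>
  haveI := hK (n + i) (by omega)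
  (H4DR.PCoh.hShift K n i (n + i) rfl).injective.subsingleton

end Groth.Agent.H26Dual2
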