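import Groth.Agent.H26Dual2.Shriek
import Groth.Agent.H26Dual2.BcFinite
import Groth.Agent.H25DTen.Amplitude

/-!
# Lower bounds and finiteness of the upper shriek
-/

set_option autoImplicit false
set_option linter.style.haveILetI false

universe u

open CategoryTheory CategoryTheory.Limits Pretriangulated Opposite

attribute [local instance] HasDerivedCategory.standard

namespace Groth.Agent.H26Dual2

variable {P A : Type u} [CommRing P] [CommRing A]

/-- Maps out of `P[-n]` are the `n`th homology. -/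
theorem exists_homSglEquiv (Z : Dual.D P) (n : ℤ) :
    Nonempty ((DRing.toD (sglP P n) ⟶ Z) ≃ₗ[P] Dual.HD P Z n) := by
  obtain ⟨W, ⟨e⟩⟩ : ∃ W : DRing.Cx P, Nonempty (DRing.toD W ≅ Z) :=
    ⟨_, ⟨DerivedCategory.Q.objObjPreimageIso Z⟩⟩
  have hk : LinearMap.range (bnd W n) = LinearMap.ker (cyc P W n) := by
    refine le_antisymm ?_ fun z hz => cyc_eq_zero hz
    rintro _ ⟨y, rfl⟩
    exact LinearMap.congr_fun (cyc_bnd W n) y
  let e₁ : (cycs W n ⧸ LinearMap.range (bnd W n)) ≃ₗ[P] (DRing.toD (sglP P n) ⟶ DRing.toD W) :=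
    LinearEquiv.ofBijective (Submodule.liftQ _ (cyc P W n) hk.le)
      ⟨LinearMap.ker_eq_bot.1 (Submodule.ker_liftQ_eq_bot _ _ _ hk.ge), fun u => by
        obtain ⟨z, rfl⟩ := cyc_surjective W n u
        exact ⟨Submodule.Quotient.mk z, rfl⟩⟩
  let e₂ : (cycs W n ⧸ LinearMap.range (bnd W n)) ≃ₗ[P] W.homology n :=
    ((W.homologyIsoSc' (n - 1) n (n + 1) (by simp) (by simp)) ≪≫
      (W.sc' (n - 1) n (n + 1)).moduleCatHomologyIso).toLinearEquiv.symm
  exact ⟨(Linear.homCongr P (Iso.refl (DRing.toD (sglP P n))) e).symm ≪≫ₗ e₁.symm ≪≫ₗ e₂ ≪≫ₗ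
    (((DerivedCategory.homologyFunctorFactors (ModuleCat.{u} P) n).app W).symm ≪≫
      (DerivedCategory.homologyFunctor (ModuleCat.{u} P) n).mapIso e).toLinearEquiv⟩

lemma finite_hom_S [IsNoetherianRing P] {Y : Dual.D P}
    (hY : ∀ i : ℤ, Module.Finite P (Dual.HD P Y i)) (k : ℤ) :
    IsNoetherian P (H25DTen.S P k ⟶ Y) := by
  obtain ⟨e⟩ := exists_homSglEquiv Y (-k)
  haveI := hY (-k)
  let i : DRing.toD (sglP P (-k)) ≅ H25DTen.S P k :=
    DerivedCategory.Q.mapIso (H25DTen.singleUnitIso (-k)) ≪≫ eqToIso (by rw [neg_neg])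
  exact isNoetherian_of_linearEquiv (e.symm ≪≫ₗ Linear.homCongr P i (Iso.refl Y))

theorem finite_hom_of_isPerfect [IsNoetherianRing P] {M : Dual.D P} (hM : DRing.IsPerfect P M)
    {Y : Dual.D P} (hY : ∀ i : ℤ, Module.Finite P (Dual.HD P Y i)) (k : ℤ) :
    IsNoetherian P (M⟦k⟧ ⟶ Y) := by
  revert k
  refine H25DTen.perfect_induction (fun M => ∀ k : ℤ, IsNoetherian P (M⟦k⟧ ⟶ Y)) ?_ ?_ ?_ hM
  · intro K L i r h h' k
    haveI := h' k
    refine isNoetherian_of_injective (Linear.leftComp P Y (r⟦k⟧')) fun f g hfg => ?_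
    have := congrArg (i⟦k⟧' ≫ ·) hfg
    simpa only [Linear.leftComp_apply, ← Category.assoc, ← Functor.map_comp, h,
      CategoryTheory.Functor.map_id, Category.id_comp] using this
  · intro T hT h₁ h₃ k
    haveI : IsNoetherian P (((shiftFunctor (Triangle (Dual.D P)) k).obj T).obj₁ ⟶ Y) := h₁ k
    haveI : IsNoetherian P (((shiftFunctor (Triangle (Dual.D P)) k).obj T).obj₃ ⟶ Y) := h₃ k
    exact isNoetherian_of_range_eq_ker (Linear.leftComp P Y (((shiftFunctor (Triangle (Dual.D P)) k).obj T).mor₂))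
      (Linear.leftComp P Y (((shiftFunctor (Triangle (Dual.D P)) k).obj T).mor₁))
      (LinearMap.exact_iff.1 (exact_leftComp Y _ (Triangle.shift_distinguished T hT k))).symm
  · intro j k
    haveI := finite_hom_S hY (j + k)
    exact isNoetherian_of_linearEquiv
      (Linear.homCongr P (H25DTen.shiftSIso j k).symm (Iso.refl Y))

theorem finite_hom_of_pc [IsNoetherianRing P] {M : Dual.D P}
    (hM : ∀ m : ℤ, DRing.IsPseudoCoherent P m M) {Y : Dual.D P}
    (hY : ∀ i : ℤ, Module.Finite P (Dual.HD P Y i)) {c : ℤ}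
    (hc : ∀ i, i < c → Subsingleton (Dual.HD P Y i)) : IsNoetherian P (M ⟶ Y) := by
  obtain ⟨E, α, hE, hα⟩ := H4DR.PCoh.pc_iff.1 (hM (c - 1))
  obtain ⟨C, g, h, hT⟩ := distinguished_cocone_triangle α
  haveI : C.IsLE (c - 2) := (DerivedCategory.isLE_iff C _).2 fun i hi =>
    ModuleCat.isZero_of_iff_subsingleton.2 ((H4DR.PCoh.good_iff_cone _ _ hT).1 hα i (by omega))
  haveI : Y.IsGE c := (DerivedCategory.isGE_iff Y c).2 fun i hi =>
    ModuleCat.isZero_of_iff_subsingleton.2 (hc i hi)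
  haveI : IsNoetherian P (DRing.toD E ⟶ Y) :=
    haveI := finite_hom_of_isPerfect (isPerfect_of_isFFCx hE) hY 0
    isNoetherian_of_linearEquiv
      (Linear.homCongr P ((shiftFunctorZero (Dual.D P) ℤ).app (DRing.toD E)) (Iso.refl Y))
  refine isNoetherian_of_injective (Linear.leftComp P Y α) ((injective_iff_map_eq_zero _).2 fun f hf => ?_)
  obtain ⟨f', rfl⟩ := Triangle.yoneda_exact₂ _ hT f hf
  have h0 : f' = 0 := DerivedCategory.TStructure.t.zero_of_isLE_of_isGE f' (c - 2) c (by omega) ‹_› ‹_›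
  rw [h0]
  exact comp_zero

/-- The right adjoint of restriction preserves lower bounds. -/
theorem isGE_rightAdjoint {ψ : P →+* A} {Rψ : Dual.D P ⥤ Dual.D A} (adj : TD ψ ⊣ Rψ) (Y : Dual.D P)
    {c : ℤ} [Y.IsGE c] : (Rψ.obj Y).IsGE c := by
  refine H25DTen.isGE_of_hom_S_eq_zero fun k hk f => (adj.homEquiv _ _).symm.injective ?_
  haveI := adj.right_adjoint_additive
  haveI h1 := H25DTen.isLE_S (A := A) k
  haveI : ((TD ψ).obj (H25DTen.S A k)).IsLE (-k) := (DerivedCategory.isLE_iff _ _).2 fun i hi =>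
    ModuleCat.isZero_of_iff_subsingleton.2 (H4DR.PCoh.subsingleton_map (reF ψ)
      (ModuleCat.subsingleton_of_isZero (DerivedCategory.isZero_of_isLE _ (-k) i hi)))
  rw [Adjunction.homEquiv_counit, Adjunction.homEquiv_counit, Functor.map_zero, zero_comp]
  exact DerivedCategory.TStructure.t.zero_of_isLE_of_isGE _ (-k) c (by omega) ‹_› ‹_›

/-- The right adjoint of restriction along a finite map preserves finiteness. -/
theorem finite_rightAdjoint [IsNoetherianRing P] {ψ : P →+* A} (hψ : ψ.Finite)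
    {Rψ : Dual.D P ⥤ Dual.D A} (adj : TD ψ ⊣ Rψ) {Y : Dual.D P}
    (hY : ∀ i : ℤ, Module.Finite P (Dual.HD P Y i)) {c : ℤ}
    (hc : ∀ i, i < c → Subsingleton (Dual.HD P Y i)) (i : ℤ) :
    Module.Finite A (Dual.HD A (Rψ.obj Y) i) := by
  obtain ⟨e⟩ := exists_homSglEquiv (Rψ.obj Y) i
  let e' : DRing.toD (sglP A i) ≅ H25DTen.S A (-i) :=
    DerivedCategory.Q.mapIso (H25DTen.singleUnitIso i)
  haveI := finite_hom_of_pc (fun m => pc_TD_S hψ (-i) m) hY hc
  haveI := adj.right_adjoint_additive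
  suffices h : Module.Finite A (H25DTen.S A (-i) ⟶ Rψ.obj Y) from
    Module.Finite.equiv ((Linear.homCongr A e'.symm (Iso.refl _)) ≪≫ₗ e)
  obtain ⟨s, hs⟩ := (IsNoetherian.noetherian (⊤ : Submodule P
    ((TD ψ).obj (H25DTen.S A (-i)) ⟶ Y)))
  classical
  refine ⟨⟨s.image (fun g => adj.homEquiv _ _ g), eq_top_iff.2 fun f hf => ?_⟩⟩
  clear hf
  obtain ⟨g, rfl⟩ := (adj.homEquiv _ _).surjective f
  have hg : g ∈ Submodule.span P (s : Set ((TD ψ).obj (H25DTen.S A (-i)) ⟶ Y)) := hs ▸ trivial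
  induction hg using Submodule.span_induction with
  | mem g hg => exact Submodule.subset_span (Finset.mem_image_of_mem _ hg)
  | zero =>
    rw [Adjunction.homEquiv_unit, Functor.map_zero, comp_zero]
    exact Submodule.zero_mem _
  | add g g' _ _ hg hg' =>
    rw [Adjunction.homEquiv_unit, Functor.map_add, Preadditive.comp_add, ← Adjunction.homEquiv_unit,
      ← Adjunction.homEquiv_unit]
    exact Submodule.add_mem _ hg hg'
  | smul p g _ hg =>
    have : p • g = (TD ψ).map (ψ p • 𝟙 (H25DTen.S A (-i))) ≫ g := by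
      rw [restrictD_smul_id, Linear.smul_comp, Category.id_comp]
    rw [this, Adjunction.homEquiv_naturality_left, Linear.smul_comp, Category.id_comp]
    exact Submodule.smul_mem _ _ hg

/-- Finiteness after extension along a flat map. -/
lemma finite_leftAdjoint {φ : P →+* A} (hφ : φ.Flat) {G : Dual.D P ⥤ Dual.D A} (adj : G ⊣ TD φ)
    {K : Dual.D P} {i : ℤ} (hK : Module.Finite P (Dual.HD P K i)) :
    Module.Finite A (Dual.HD A (G.obj K) i) := by
  haveI : PreservesFiniteLimits (exF φ) := ModuleCat.preservesFiniteLimits_extendScalars_of_flat hφ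
  have h1 : Module.Finite A ((exF φ).obj ((H4DR.PCoh.H P i).obj K)) := by
    letI := φ.toAlgebra
    exact inferInstanceAs (Module.Finite A (TensorProduct P A (Dual.HD P K i)))
  exact Module.Finite.equiv ((H4DR.PCoh.hMap (exF φ) i K).toLinearEquiv.symm ≪≫ₗ
    H4DR.PCoh.hEquiv i (((gtAdj φ).leftAdjointUniq adj).app K))

end Groth.Agent.H26Dual2
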