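import Groth.Agent.H26Dual2.PolyBasis
import Groth.Agent.H16Derived.ExactAdj
import Groth.Prelude.Def_DDual2
import Mathlib.Algebra.Category.ModuleCat.ChangeOfRings
import Mathlib.Algebra.Homology.HomologicalComplexAbelian

/-!
# A polynomial variable: extension of scalars, the two-term sequence, division maps on complexes
-/

set_option autoImplicit false
set_option linter.style.haveILetI false

universe u

open CategoryTheory CategoryTheory.Limits Polynomial TensorProduct

namespace Groth.Agent.H26Dual2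

variable {B C : Type u} [CommRing B] [CommRing C] (φ : B →+* C) (x : C)

/-- `C` is a polynomial ring over `B` in the variable `x`, through `φ`. -/
def IsPolyVar : Prop := Function.Bijective (Polynomial.eval₂RingHom φ x)

variable {φ x}

lemma IsPolyVar.aeval_bij (hx : IsPolyVar φ x) :
    letI := φ.toAlgebra
    Function.Bijective (aeval (R := B) x) := hx

lemma IsPolyVar.flat (hx : IsPolyVar φ x) : φ.Flat :=
  letI := φ.toAlgebra
  flat_of_polyVar hx.aeval_bij

variable (φ)

/-- Extension of scalars. -/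
noncomputable abbrev exF : ModuleCat.{u} B ⥤ ModuleCat.{u} C := ModuleCat.extendScalars.{u, u, u} φ

/-- Restriction of scalars. -/
noncomputable abbrev reF : ModuleCat.{u} C ⥤ ModuleCat.{u} B := ModuleCat.restrictScalars.{u} φ

/-- `extendScalars ⊣ restrictScalars`. -/
noncomputable abbrev erAdj : exF φ ⊣ reF φ := ModuleCat.extendRestrictScalarsAdj.{u, u, u} φ

/-- On complexes. -/
noncomputable abbrev exCx : DRing.Cx B ⥤ DRing.Cx C :=
  (exF φ).mapHomologicalComplex (ComplexShape.up ℤ)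

/-- On complexes. -/
noncomputable abbrev reCx : DRing.Cx C ⥤ DRing.Cx B :=
  (reF φ).mapHomologicalComplex (ComplexShape.up ℤ)

/-- The adjunction on complexes. -/
noncomputable abbrev adjCx' : exCx φ ⊣ reCx φ :=
  H16Derived.mapHomologicalComplexAdj (erAdj φ) (ComplexShape.up ℤ)

/-! ### The sequence -/

variable (x) in
/-- `x ⊗ 1 - 1 ⊗ x` on `C ⊗_B M`. -/
noncomputable def thetaM (M : ModuleCat.{u} C) :
    (exF φ).obj ((reF φ).obj M) ⟶ (exF φ).obj ((reF φ).obj M) :=
  (exF φ).map ((reF φ).map (x • 𝟙 M)) - x • 𝟙 _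

lemma thetaM_eps (M : ModuleCat.{u} C) : thetaM φ x M ≫ (erAdj φ).counit.app M = 0 := by
  rw [thetaM, Preadditive.sub_comp, Linear.smul_comp, Category.id_comp]
  erw [(erAdj φ).counit.naturality (x • 𝟙 M)]
  rw [Functor.id_map, Linear.comp_smul]
  erw [Category.comp_id]
  rw [sub_self]

lemma shortExact_thetaM (hx : IsPolyVar φ x) (M : ModuleCat.{u} C) :
    (ShortComplex.mk _ _ (thetaM_eps (x := x) φ M)).ShortExact := by
  obtain ⟨h1, h2, h3⟩ := @exact_polySeq B C _ _ φ.toAlgebra x (M : Type u) _ M.isModule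
    (Module.compHom M φ)
    (letI := φ.toAlgebra; letI : Module B (M : Type u) := Module.compHom M φ
     IsScalarTower.of_algebraMap_smul (R := B) (A := C) (M := (M : Type u)) fun _ _ => rfl)
    (thetaM φ x M).hom (fun c m => rfl) ((erAdj φ).counit.app M).hom (fun c m => rfl) hx.aeval_bij
  exact
    { exact := (ShortComplex.ShortExact.moduleCat_exact_iff_function_exact _).2 h2
      mono_f := (ModuleCat.mono_iff_injective _).2 h1
      epi_g := (ModuleCat.epi_iff_surjective _).2 h3 }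

variable (x) in
/-- `x ⊗ 1 - 1 ⊗ x` on complexes. -/
noncomputable def thetaCx (M : DRing.Cx C) :
    (exCx φ).obj ((reCx φ).obj M) ⟶ (exCx φ).obj ((reCx φ).obj M) :=
  (exCx φ).map ((reCx φ).map (x • 𝟙 M)) - x • 𝟙 _

lemma thetaCx_f (M : DRing.Cx C) (i : ℤ) : (thetaCx φ x M).f i = thetaM φ x (M.X i) := rfl

lemma thetaCx_eps (M : DRing.Cx C) : thetaCx φ x M ≫ (adjCx' φ).counit.app M = 0 :=
  HomologicalComplex.hom_ext _ _ fun i => thetaM_eps φ (M.X i)

variable (x) in
/-- The short complex `C ⊗ M → C ⊗ M → M`. -/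
noncomputable abbrev polySC (M : DRing.Cx C) : ShortComplex (DRing.Cx C) :=
  ShortComplex.mk _ _ (thetaCx_eps (x := x) φ M)

lemma shortExact_polySC (hx : IsPolyVar φ x) (M : DRing.Cx C) : (polySC φ x M).ShortExact :=
  HomologicalComplex.shortExact_of_degreewise_shortExact _ fun i => shortExact_thetaM φ hx (M.X i)

variable (x) in
/-- Functoriality of the short complex. -/
noncomputable def polySCMap {M M' : DRing.Cx C} (f : M ⟶ M') : polySC φ x M ⟶ polySC φ x M' where
  τ₁ := (exCx φ).map ((reCx φ).map f)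
  τ₂ := (exCx φ).map ((reCx φ).map f)
  τ₃ := f
  comm₁₂ := by
    show (exCx φ).map ((reCx φ).map f) ≫ thetaCx φ x M' = thetaCx φ x M ≫ (exCx φ).map ((reCx φ).map f)
    rw [thetaCx, thetaCx, Preadditive.comp_sub, Preadditive.sub_comp, ← Functor.map_comp,
      ← Functor.map_comp, ← Functor.map_comp, ← Functor.map_comp, Linear.comp_smul, Linear.smul_comp,
      Linear.comp_smul, Linear.smul_comp, Category.id_comp, Category.comp_id, Category.id_comp,
      Category.comp_id]
  comm₂₃ := (adjCx' φ).counit.naturality f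

/-! ### Division maps -/

variable (g : B[X]) (hg : g.Monic)

/-- Make a morphism out of `C ⊗_B M`, seen over `B`. -/
noncomputable def mkRes {M N : ModuleCat.{u} B}
    (f : letI := φ.toAlgebra; C ⊗[B] M →ₗ[B] N) : (reF φ).obj ((exF φ).obj M) ⟶ N :=
  letI := φ.toAlgebra
  ModuleCat.ofHom (X := (reF φ).obj ((exF φ).obj M))
    { toFun := fun z => f z
      map_add' := fun a b => map_add f a b
      map_smul' := fun b z => by
        refine Eq.trans ?_ (map_smul f b z)
        exact congrArg f (algebraMap_smul C b (show C ⊗[B] M from z)) }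

lemma mkRes_apply {M N : ModuleCat.{u} B} (f : letI := φ.toAlgebra; C ⊗[B] M →ₗ[B] N)
    (z : (reF φ).obj ((exF φ).obj M)) : (mkRes φ f).hom z = f z := rfl

/-- Make an endomorphism of `C ⊗_B M`, seen over `B`, from a `B`-linear map of `C`. -/
noncomputable def mkEnd (M : ModuleCat.{u} B) (f : letI := φ.toAlgebra; C →ₗ[B] C) :
    (reF φ).obj ((exF φ).obj M) ⟶ (reF φ).obj ((exF φ).obj M) :=
  letI := φ.toAlgebra
  ModuleCat.ofHom (X := (reF φ).obj ((exF φ).obj M)) (Y := (reF φ).obj ((exF φ).obj M))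
    { toFun := fun z => (f.rTensor M z : C ⊗[B] M)
      map_add' := fun a b => map_add (f.rTensor M) a b
      map_smul' := fun b z => by
        refine ((congrArg (f.rTensor M) (algebraMap_smul C b (show C ⊗[B] M from z))).trans
          (map_smul (f.rTensor M) b z)).trans ?_
        exact (algebraMap_smul C b (f.rTensor M (show C ⊗[B] M from z))).symm }

variable {φ}

/-- The `i`-th remainder coefficient. -/
noncomputable def remMap (hx : IsPolyVar φ x) (i : ℕ) (M : ModuleCat.{u} B) :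
    (reF φ).obj ((exF φ).obj M) ⟶ M :=
  letI := φ.toAlgebra
  mkRes φ ((TensorProduct.lid B M).toLinearMap ∘ₗ (remCoeff hx.aeval_bij g i).rTensor M)

/-- The quotient by `g`. -/
noncomputable def quoMap (hx : IsPolyVar φ x) (M : ModuleCat.{u} B) :
    (reF φ).obj ((exF φ).obj M) ⟶ (reF φ).obj ((exF φ).obj M) :=
  letI := φ.toAlgebra
  mkEnd φ M (quo hx.aeval_bij g hg)

variable (hx : IsPolyVar φ x)

lemma remMap_tmul (i : ℕ) (M : ModuleCat.{u} B) (c : C) (m : M) :
    letI := φ.toAlgebra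
    (remMap g hx i M).hom (c ⊗ₜ[B] m : C ⊗[B] M) = remCoeff hx.aeval_bij g i c • m := rfl

lemma quoMap_tmul (M : ModuleCat.{u} B) (c : C) (m : M) :
    letI := φ.toAlgebra
    (quoMap g hg hx M).hom (c ⊗ₜ[B] m : C ⊗[B] M) = (quo hx.aeval_bij g hg c ⊗ₜ[B] m : C ⊗[B] M) :=
  rfl

/-- Extensionality for maps out of `C ⊗_B M`. -/
lemma res_ext {M N : ModuleCat.{u} B} {f f' : (reF φ).obj ((exF φ).obj M) ⟶ N}
    (h : letI := φ.toAlgebra
      ∀ (c : C) (m : M), f.hom (c ⊗ₜ[B] m : C ⊗[B] M) = f'.hom (c ⊗ₜ[B] m : C ⊗[B] M)) :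
    f = f' := by
  letI := φ.toAlgebra
  refine ModuleCat.hom_ext (LinearMap.ext fun z => ?_)
  induction z using TensorProduct.induction_on with
  | zero => exact (map_zero f.hom).trans (map_zero f'.hom).symm
  | tmul c m => exact h c m
  | add a b ha hb => exact (map_add f.hom a b).trans ((congrArg₂ (· + ·) ha hb).trans (map_add f'.hom a b).symm)

lemma remMap_naturality (i : ℕ) {M N : ModuleCat.{u} B} (f : M ⟶ N) :
    (reF φ).map ((exF φ).map f) ≫ remMap g hx i N = remMap g hx i M ≫ f :=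
  res_ext fun c m => ((f.hom.map_smul _ m).symm : _)

lemma quoMap_naturality {M N : ModuleCat.{u} B} (f : M ⟶ N) :
    (reF φ).map ((exF φ).map f) ≫ quoMap g hg hx N =
      quoMap g hg hx M ≫ (reF φ).map ((exF φ).map f) :=
  res_ext fun _ _ => rfl

include hg in
lemma smul_quoMap (M : ModuleCat.{u} B) :
    (reF φ).map (eval₂ φ x g • 𝟙 ((exF φ).obj M)) ≫ quoMap g hg hx M = 𝟙 _ :=
  res_ext fun c m => by
    letI := φ.toAlgebra
    exact congrArg (· ⊗ₜ[B] m) (quo_mul hx.aeval_bij g hg c)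

include hg in
lemma smul_remMap (i : ℕ) (M : ModuleCat.{u} B) :
    (reF φ).map (eval₂ φ x g • 𝟙 ((exF φ).obj M)) ≫ remMap g hx i M = 0 :=
  res_ext fun c m => by
    letI := φ.toAlgebra
    exact (congrArg (· • m) (remCoeff_mul hx.aeval_bij g hg i c)).trans (zero_smul B m)

include hg in
lemma unit_pow_remMap (i j : ℕ) (hj : j < g.natDegree) (M : ModuleCat.{u} B) :
    (erAdj φ).unit.app M ≫ (reF φ).map (x ^ j • 𝟙 ((exF φ).obj M)) ≫ remMap g hx i M =
      (if i = j then (1 : B) else 0) • 𝟙 M :=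
  ModuleCat.hom_ext (LinearMap.ext fun m => by
    letI := φ.toAlgebra
    show (remMap g hx i M).hom (((x ^ j * 1) ⊗ₜ[B] m : C ⊗[B] M)) = _
    rw [mul_one, remMap_tmul, remCoeff_pow hx.aeval_bij g hg hj]
    rfl)

include hg in
lemma rem_quo_decomp (M : ModuleCat.{u} B) :
    (∑ i : Fin g.natDegree,
        remMap g hx (i : ℕ) M ≫ (erAdj φ).unit.app M ≫ (reF φ).map (x ^ (i : ℕ) • 𝟙 ((exF φ).obj M))) +
      quoMap g hg hx M ≫ (reF φ).map (eval₂ φ x g • 𝟙 ((exF φ).obj M)) = 𝟙 _ :=
  res_ext fun c m => by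
    letI := φ.toAlgebra
    rw [ModuleCat.hom_add, LinearMap.add_apply, ModuleCat.hom_sum, LinearMap.sum_apply]
    have h1 : ∀ i : Fin g.natDegree,
        ((remMap g hx (i : ℕ) M ≫ (erAdj φ).unit.app M ≫
          (reF φ).map (x ^ (i : ℕ) • 𝟙 ((exF φ).obj M))).hom (c ⊗ₜ[B] m : C ⊗[B] M) :
            C ⊗[B] M) = (remCoeff hx.aeval_bij g (i : ℕ) c • x ^ (i : ℕ)) ⊗ₜ[B] m := fun i => by
      show ((x ^ (i : ℕ) * 1) ⊗ₜ[B] (remCoeff hx.aeval_bij g (i : ℕ) c • m) : C ⊗[B] M) = _
      rw [mul_one, TensorProduct.smul_tmul]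
    refine (congrArg₂ (fun (a b : C ⊗[B] M) => a + b) (Finset.sum_congr rfl fun i _ => h1 i)
      (show ((quoMap g hg hx M ≫ (reF φ).map (eval₂ φ x g • 𝟙 ((exF φ).obj M))).hom
        (c ⊗ₜ[B] m : C ⊗[B] M) : C ⊗[B] M) = (eval₂ φ x g * quo hx.aeval_bij g hg c) ⊗ₜ[B] m from rfl)).trans ?_
    rw [← TensorProduct.sum_tmul, ← TensorProduct.add_tmul]
    exact congrArg (· ⊗ₜ[B] m) (decomp hx.aeval_bij g hg c).symm

/-- `remMap` on complexes. -/
noncomputable def remCx (i : ℕ) (K : DRing.Cx B) : (reCx φ).obj ((exCx φ).obj K) ⟶ K where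
  f n := remMap g hx i (K.X n)
  comm' n m _ := (remMap_naturality g hx i (K.d n m)).symm

/-- `quoMap` on complexes. -/
noncomputable def quoCx (K : DRing.Cx B) :
    (reCx φ).obj ((exCx φ).obj K) ⟶ (reCx φ).obj ((exCx φ).obj K) where
  f n := quoMap g hg hx (K.X n)
  comm' n m _ := (quoMap_naturality g hg hx (K.d n m)).symm

end Groth.Agent.H26Dual2
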