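import Groth.Agent.H26Dual2.PolyAlg
import Groth.Agent.H26Dual2.PolyDiv
import Mathlib.Algebra.Homology.DerivedCategory.ShortExact
import Mathlib.Algebra.Homology.DerivedCategory.Linear
import Mathlib.CategoryTheory.Localization.Predicate

/-!
# Duality for one polynomial variable

If `C = B[x]` and `N` is an object of `D(C)` killed by a monic polynomial in `x`, then
`Hom_{D(B)}(N, K) = Hom_{D(C)}(N, (K ⊗_B C)[1])`.
-/

set_option autoImplicit false
set_option linter.style.haveILetI false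

universe u

open CategoryTheory CategoryTheory.Limits Polynomial Pretriangulated

attribute [local instance] HasDerivedCategory.standard

namespace Groth.Agent.H26Dual2

variable {B C : Type u} [CommRing B] [CommRing C] {φ : B →+* C} {x : C}

/-- Restriction of scalars on derived categories commutes with the scalars of the base. -/
lemma restrictD_smul_id (φ : B →+* C) (Y : Dual.D C) (b : B) :
    (DRing.restrictD φ).map (φ b • 𝟙 Y) = b • 𝟙 ((DRing.restrictD φ).obj Y) := by
  obtain ⟨Y₀, ⟨e⟩⟩ : ∃ Y₀ : DRing.Cx C, Nonempty (DRing.toD Y₀ ≅ Y) :=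
    ⟨_, ⟨DerivedCategory.Q.objObjPreimageIso Y⟩⟩
  have h0 : (DRing.restrictD φ).map (φ b • 𝟙 (DRing.toD Y₀)) =
      b • 𝟙 ((DRing.restrictD φ).obj (DRing.toD Y₀)) := by
    have h1 := (reF φ).mapDerivedCategoryFactors.hom.naturality (φ b • 𝟙 Y₀)
    simp only [Functor.comp_map, Functor.map_smul DerivedCategory.Q,
      CategoryTheory.Functor.map_id DerivedCategory.Q] at h1
    have h2 : (reCx φ).map (φ b • 𝟙 Y₀) = b • 𝟙 ((reCx φ).obj Y₀) :=
      HomologicalComplex.hom_ext _ _ fun i => rfl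
    rw [h2, Functor.map_smul DerivedCategory.Q, CategoryTheory.Functor.map_id DerivedCategory.Q,
      Linear.comp_smul] at h1
    erw [Category.comp_id] at h1
    rw [← cancel_mono ((reF φ).mapDerivedCategoryFactors.app Y₀).hom, Linear.smul_comp, Category.id_comp]
    exact h1
  have he : φ b • 𝟙 Y = e.inv ≫ (φ b • 𝟙 (DRing.toD Y₀)) ≫ e.hom := by
    rw [Linear.smul_comp, Category.id_comp, Linear.comp_smul, e.inv_hom_id]
  rw [he, Functor.map_comp, Functor.map_comp, h0, Linear.smul_comp, Category.id_comp,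
    Linear.comp_smul, ← Functor.map_comp, e.inv_hom_id, CategoryTheory.Functor.map_id]

variable [PreservesFiniteLimits (exF φ)]

/-- Derived extension of scalars along a flat map. -/
noncomputable abbrev GD (φ : B →+* C) [PreservesFiniteLimits (exF φ)] : Dual.D B ⥤ Dual.D C :=
  (exF φ).mapDerivedCategory

/-- Derived restriction of scalars. -/
noncomputable abbrev TD (φ : B →+* C) : Dual.D C ⥤ Dual.D B := DRing.restrictD φ

/-- Their adjunction. -/
noncomputable def gtAdj (φ : B →+* C) [PreservesFiniteLimits (exF φ)] : GD φ ⊣ TD φ :=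
  H16Derived.ExactAdj.mapDerivedCategoryAdj (erAdj φ)

/-- `GD (TD M)` on representatives. -/
noncomputable def gtIso (M : DRing.Cx C) :
    (GD φ).obj ((TD φ).obj (DRing.toD M)) ≅ DRing.toD ((exCx φ).obj ((reCx φ).obj M)) :=
  (GD φ).mapIso ((reF φ).mapDerivedCategoryFactors.app M) ≪≫
    (exF φ).mapDerivedCategoryFactors.app ((reCx φ).obj M)

lemma gtIso_naturality {M M' : DRing.Cx C} (f : M ⟶ M') :
    (GD φ).map ((TD φ).map (DerivedCategory.Q.map f)) ≫ (gtIso M').hom =
      (gtIso M).hom ≫ DerivedCategory.Q.map ((exCx φ).map ((reCx φ).map f)) := by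
  have h1 := (reF φ).mapDerivedCategoryFactors.hom.naturality f
  have h2 := (exF φ).mapDerivedCategoryFactors.hom.naturality ((reCx φ).map f)
  simp only [Functor.comp_map] at h1 h2
  simp only [gtIso, Iso.trans_hom, Functor.mapIso_hom, Iso.app_hom, Category.assoc]
  rw [← Functor.map_comp_assoc, h1, Functor.map_comp_assoc, h2]

variable (x) in
/-- `x ⊗ 1 - 1 ⊗ x` on derived categories. -/
noncomputable def thetaD (N : Dual.D C) :
    (GD φ).obj ((TD φ).obj N) ⟶ (GD φ).obj ((TD φ).obj N) :=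
  (GD φ).map ((TD φ).map (x • 𝟙 N)) - x • 𝟙 _

lemma thetaD_naturality {N N' : Dual.D C} (f : N ⟶ N') :
    (GD φ).map ((TD φ).map f) ≫ thetaD x N' = thetaD x N ≫ (GD φ).map ((TD φ).map f) := by
  rw [thetaD, thetaD, Preadditive.comp_sub, Preadditive.sub_comp, ← Functor.map_comp,
    ← Functor.map_comp, ← Functor.map_comp, ← Functor.map_comp, Linear.comp_smul, Linear.smul_comp,
    Linear.comp_smul, Linear.smul_comp, Category.id_comp, Category.comp_id, Category.id_comp,
    Category.comp_id]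

lemma thetaD_toD (M : DRing.Cx C) :
    thetaD x (DRing.toD M) ≫ (gtIso (φ := φ) M).hom =
      (gtIso M).hom ≫ DerivedCategory.Q.map (thetaCx φ x M) := by
  have h1 := gtIso_naturality (φ := φ) (x • 𝟙 M)
  rw [Functor.map_smul DerivedCategory.Q, CategoryTheory.Functor.map_id DerivedCategory.Q] at h1
  rw [thetaD, thetaCx, Preadditive.sub_comp, h1, Functor.map_sub, Functor.map_smul DerivedCategory.Q,
    CategoryTheory.Functor.map_id DerivedCategory.Q, Preadditive.comp_sub, Linear.smul_comp,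
    Linear.comp_smul, Category.id_comp, Category.comp_id]

/-- The connecting map, as a natural transformation. -/
noncomputable def deltaQ (hx : IsPolyVar φ x) :
    DerivedCategory.Q ⟶ DerivedCategory.Q ⋙ (TD φ ⋙ GD φ ⋙ shiftFunctor (Dual.D C) (1 : ℤ)) where
  app M := DerivedCategory.triangleOfSESδ (shortExact_polySC φ hx M) ≫ (gtIso M).inv⟦(1 : ℤ)⟧'
  naturality M M' f := by
    have h1 := DerivedCategory.triangleOfSESδ_naturality (shortExact_polySC φ hx M)
      (shortExact_polySC φ hx M') (polySCMap φ x f)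
    have h2 : (gtIso (φ := φ) M).inv ≫ (GD φ).map ((TD φ).map (DerivedCategory.Q.map f)) =
        DerivedCategory.Q.map ((exCx φ).map ((reCx φ).map f)) ≫ (gtIso M').inv := by
      rw [Iso.inv_comp_eq, ← Category.assoc, Iso.eq_comp_inv, gtIso_naturality]
    show DerivedCategory.Q.map f ≫ _ = (_ ≫ _) ≫ (shiftFunctor (Dual.D C) (1 : ℤ)).map _
    rw [Category.assoc, ← Functor.map_comp, h2, Functor.map_comp]
    rw [← Category.assoc, ← Category.assoc]
    exact congrArg (· ≫ _) h1.symm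

/-- The connecting map on `D(C)`. -/
noncomputable def delta (hx : IsPolyVar φ x) :
    𝟭 (Dual.D C) ⟶ TD φ ⋙ GD φ ⋙ shiftFunctor (Dual.D C) (1 : ℤ) :=
  letI : Localization.Lifting DerivedCategory.Q (HomologicalComplex.quasiIso (ModuleCat.{u} C) (ComplexShape.up ℤ))
      DerivedCategory.Q (𝟭 (Dual.D C)) := ⟨Functor.rightUnitor _⟩
  letI : Localization.Lifting DerivedCategory.Q (HomologicalComplex.quasiIso (ModuleCat.{u} C) (ComplexShape.up ℤ))
      (DerivedCategory.Q ⋙ (TD φ ⋙ GD φ ⋙ shiftFunctor (Dual.D C) (1 : ℤ)))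
      (TD φ ⋙ GD φ ⋙ shiftFunctor (Dual.D C) (1 : ℤ)) := ⟨Iso.refl _⟩
  Localization.liftNatTrans DerivedCategory.Q
    (HomologicalComplex.quasiIso (ModuleCat.{u} C) (ComplexShape.up ℤ)) _ _ _ _ (deltaQ hx)

lemma delta_toD (hx : IsPolyVar φ x) (M : DRing.Cx C) :
    (delta hx).app (DRing.toD M) =
      DerivedCategory.triangleOfSESδ (shortExact_polySC φ hx M) ≫ (gtIso M).inv⟦(1 : ℤ)⟧' := by
  rw [delta]
  erw [Localization.liftNatTrans_app]
  simp [deltaQ]

/-- The triangle of a polynomial variable. -/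
theorem exists_triangle (hx : IsPolyVar φ x) (N : Dual.D C) :
    ∃ ε : (GD φ).obj ((TD φ).obj N) ⟶ N,
      Triangle.mk (thetaD x N) ε ((delta hx).app N) ∈ distTriang (Dual.D C) := by
  obtain ⟨M, ⟨e⟩⟩ : ∃ M : DRing.Cx C, Nonempty (DRing.toD M ≅ N) :=
    ⟨_, ⟨DerivedCategory.Q.objObjPreimageIso N⟩⟩
  let i : (GD φ).obj ((TD φ).obj N) ≅ DRing.toD ((exCx φ).obj ((reCx φ).obj M)) :=
    (GD φ).mapIso ((TD φ).mapIso e.symm) ≪≫ gtIso M
  have hi : thetaD x N ≫ i.hom = i.hom ≫ DerivedCategory.Q.map (thetaCx φ x M) := by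
    show thetaD x N ≫ (GD φ).map ((TD φ).map e.inv) ≫ (gtIso M).hom =
      ((GD φ).map ((TD φ).map e.inv) ≫ (gtIso M).hom) ≫ _
    rw [Category.assoc, ← thetaD_toD, ← Category.assoc, ← thetaD_naturality, Category.assoc]
  have hd : (delta hx).app N ≫ i.hom⟦(1 : ℤ)⟧' =
      e.inv ≫ DerivedCategory.triangleOfSESδ (shortExact_polySC φ hx M) := by
    have hn := (delta hx).naturality e.inv
    simp only [Functor.comp_map, Functor.id_map, delta_toD] at hn
    show (delta hx).app N ≫ ((GD φ).map ((TD φ).map e.inv) ≫ (gtIso M).hom)⟦(1 : ℤ)⟧' = _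
    rw [Functor.map_comp, ← Category.assoc, ← hn, Category.assoc, Category.assoc, ← Functor.map_comp,
      Iso.inv_hom_id, CategoryTheory.Functor.map_id]
    erw [Category.comp_id]
  refine ⟨i.hom ≫ DerivedCategory.Q.map ((adjCx' φ).counit.app M) ≫ e.hom,
    isomorphic_distinguished _ (DerivedCategory.triangleOfSES_distinguished (shortExact_polySC φ hx M)) _
      (Triangle.isoMk _ _ i i e.symm hi ?_ hd)⟩
  show (i.hom ≫ DerivedCategory.Q.map ((adjCx' φ).counit.app M) ≫ e.hom) ≫ e.inv =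
    i.hom ≫ DerivedCategory.Q.map ((adjCx' φ).counit.app M)
  rw [Category.assoc, Category.assoc, e.hom_inv_id]
  erw [Category.comp_id]

/-- The coefficient data on derived categories. -/
theorem exists_polyData (hx : IsPolyVar φ x) (g : B[X]) (hg : g.Monic) (K : Dual.D B) :
    ∃ (r : ℕ → ((TD φ).obj ((GD φ).obj K) ⟶ K))
      (q : (TD φ).obj ((GD φ).obj K) ⟶ (TD φ).obj ((GD φ).obj K)),
      (TD φ).map (eval₂ φ x g • 𝟙 ((GD φ).obj K)) ≫ q = 𝟙 _ ∧
      (∀ i, (TD φ).map (eval₂ φ x g • 𝟙 ((GD φ).obj K)) ≫ r i = 0) ∧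
      (∀ i j, j < g.natDegree → (gtAdj φ).unit.app K ≫
        (TD φ).map (x ^ j • 𝟙 ((GD φ).obj K)) ≫ r i = (if i = j then (1 : B) else 0) • 𝟙 K) ∧
      (∑ i : Fin g.natDegree,
          r i ≫ (gtAdj φ).unit.app K ≫ (TD φ).map (x ^ (i : ℕ) • 𝟙 ((GD φ).obj K))) +
        q ≫ (TD φ).map (eval₂ φ x g • 𝟙 ((GD φ).obj K)) = 𝟙 _ := by
  obtain ⟨K₀, ⟨e⟩⟩ : ∃ K₀ : DRing.Cx B, Nonempty (DRing.toD K₀ ≅ K) :=
    ⟨_, ⟨DerivedCategory.Q.objObjPreimageIso K⟩⟩
  let Y := (exCx φ).obj K₀
  let e₁ : (GD φ).obj K ≅ DRing.toD Y :=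
    (GD φ).mapIso e.symm ≪≫ (exF φ).mapDerivedCategoryFactors.app K₀
  let e₂ : (TD φ).obj ((GD φ).obj K) ≅ DRing.toD ((reCx φ).obj Y) :=
    (TD φ).mapIso e₁ ≪≫ (reF φ).mapDerivedCategoryFactors.app Y
  have hs : ∀ c : C, (TD φ).map (c • 𝟙 ((GD φ).obj K)) =
      e₂.hom ≫ DerivedCategory.Q.map ((reCx φ).map (c • 𝟙 Y)) ≫ e₂.inv := by
    intro c
    have h1 := (reF φ).mapDerivedCategoryFactors.hom.naturality (c • 𝟙 Y)
    simp only [Functor.comp_map, Functor.map_smul DerivedCategory.Q,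
      CategoryTheory.Functor.map_id DerivedCategory.Q] at h1
    rw [← Category.assoc, Iso.eq_comp_inv]
    show (TD φ).map (c • 𝟙 _) ≫ (TD φ).map e₁.hom ≫ _ = ((TD φ).map e₁.hom ≫ _) ≫ _
    rw [Category.assoc]
    erw [← h1]
    rw [← Category.assoc, ← Functor.map_comp, Linear.smul_comp, Category.id_comp, ← Category.assoc,
      ← Functor.map_comp, Linear.comp_smul, Category.comp_id]
    rfl
  have hu : (gtAdj φ).unit.app K ≫ e₂.hom = e.inv ≫ DerivedCategory.Q.map ((adjCx' φ).unit.app K₀) := by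
    have hn := (gtAdj φ).unit.naturality e.inv
    simp only [Functor.id_map, Functor.comp_map] at hn
    show (gtAdj φ).unit.app K ≫ (TD φ).map ((GD φ).map e.inv ≫ _) ≫ _ = _
    rw [Functor.map_comp, Category.assoc, ← Category.assoc ((gtAdj φ).unit.app K)]
    erw [← hn]
    rw [Category.assoc]
    congr 1
    rw [gtAdj, H16Derived.ExactAdj.mapDerivedCategoryAdj]
    erw [Adjunction.localization_unit_app]
    rw [Category.assoc, Category.assoc]
    refine (congrArg (DerivedCategory.Q.map _ ≫ ·) ?_).trans (Category.comp_id _)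
    show (reF φ).mapDerivedCategoryFactors.inv.app Y ≫
      (TD φ).map ((exF φ).mapDerivedCategoryFactors.inv.app K₀) ≫
        (TD φ).map ((exF φ).mapDerivedCategoryFactors.hom.app K₀) ≫
          (reF φ).mapDerivedCategoryFactors.hom.app Y = 𝟙 _
    rw [← Functor.map_comp_assoc, Iso.inv_hom_id_app]
    erw [CategoryTheory.Functor.map_id, Category.id_comp]
    rw [Iso.inv_hom_id_app]
  refine ⟨fun i => e₂.hom ≫ DerivedCategory.Q.map (remCx g hx i K₀) ≫ e.hom,
    e₂.hom ≫ DerivedCategory.Q.map (quoCx g hg hx K₀) ≫ e₂.inv, ?_, fun i => ?_, fun i j hj => ?_, ?_⟩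
  · have h0 : (reCx φ).map (eval₂ φ x g • 𝟙 Y) ≫ quoCx g hg hx K₀ = 𝟙 _ :=
      HomologicalComplex.hom_ext _ _ fun n => smul_quoMap g hg hx (K₀.X n)
    rw [hs]
    simp only [Category.assoc, Iso.inv_hom_id_assoc]
    rw [← Functor.map_comp_assoc, h0, CategoryTheory.Functor.map_id, Category.id_comp, e₂.hom_inv_id]
  · have h0 : (reCx φ).map (eval₂ φ x g • 𝟙 Y) ≫ remCx g hx i K₀ = 0 :=
      HomologicalComplex.hom_ext _ _ fun n => smul_remMap g hg hx i (K₀.X n)
    rw [hs]
    simp only [Category.assoc, Iso.inv_hom_id_assoc]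
    rw [← Functor.map_comp_assoc, h0, Functor.map_zero, Limits.zero_comp, Limits.comp_zero]
  · have h0 : (adjCx' φ).unit.app K₀ ≫ (reCx φ).map (x ^ j • 𝟙 Y) ≫ remCx g hx i K₀ =
        (if i = j then (1 : B) else 0) • 𝟙 K₀ :=
      HomologicalComplex.hom_ext _ _ fun n => unit_pow_remMap g hg hx i j hj (K₀.X n)
    rw [hs]
    simp only [Category.assoc, Iso.inv_hom_id_assoc]
    rw [← Category.assoc ((gtAdj φ).unit.app K), hu, Category.assoc, ← Functor.map_comp_assoc,
      ← Functor.map_comp_assoc, Category.assoc, h0, Functor.map_smul,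
      CategoryTheory.Functor.map_id, Linear.smul_comp, Category.id_comp, Linear.comp_smul, e.inv_hom_id]
  · have h0 : (∑ i : Fin g.natDegree,
          remCx g hx (i : ℕ) K₀ ≫ (adjCx' φ).unit.app K₀ ≫ (reCx φ).map (x ^ (i : ℕ) • 𝟙 Y)) +
        quoCx g hg hx K₀ ≫ (reCx φ).map (eval₂ φ x g • 𝟙 Y) = 𝟙 _ :=
      HomologicalComplex.hom_ext _ _ fun n => by
        rw [HomologicalComplex.add_f_apply, ← HomologicalComplex.eval_map,
          ← HomologicalComplex.eval_map, Functor.map_sum]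
        exact rem_quo_decomp g hg hx (K₀.X n)
    have key := congrArg (fun f => e₂.hom ≫ DerivedCategory.Q.map f ≫ e₂.inv) h0
    simp only [Functor.map_add, Functor.map_sum, Preadditive.sum_comp, Preadditive.comp_sum,
      Preadditive.add_comp, Preadditive.comp_add] at key
    have key2 : e₂.hom ≫ DerivedCategory.Q.map (𝟙 ((reCx φ).obj ((exCx φ).obj K₀))) ≫ e₂.inv = 𝟙 _ := by
      rw [CategoryTheory.Functor.map_id]
      erw [Category.id_comp]
      exact e₂.hom_inv_id
    refine Eq.trans ?_ (key.trans key2)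
    congr 1
    · refine Finset.sum_congr rfl fun i _ => ?_
      rw [hs]
      simp only [Category.assoc, Functor.map_comp]
      rw [reassoc_of% hu, e.hom_inv_id_assoc]
    · rw [hs]
      simp only [Category.assoc, Functor.map_comp, Iso.inv_hom_id_assoc]

/-- Multiplication by a scalar of `C`, on the target side. -/
noncomputable def postE (φ : B →+* C) {W : Dual.D B} (Y : Dual.D C) (c : C) :
    Module.End B (W ⟶ (TD φ).obj Y) where
  toFun u := u ≫ (TD φ).map (c • 𝟙 Y)
  map_add' u v := Preadditive.add_comp _ _ _ _ _ _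
  map_smul' b u := Linear.smul_comp _ _ _ _ _ _

/-- Multiplication by a scalar of `C`, on the source side. -/
noncomputable def preE (φ : B →+* C) {W : Dual.D B} (N : Dual.D C) (c : C) :
    Module.End B ((TD φ).obj N ⟶ W) where
  toFun u := (TD φ).map (c • 𝟙 N) ≫ u
  map_add' u v := Preadditive.comp_add _ _ _ _ _ _
  map_smul' b u := Linear.comp_smul _ _ _ _ _ _

lemma TD_map_smul_mul (φ : B →+* C) (Y : Dual.D C) (c d : C) :
    (TD φ).map ((c * d) • 𝟙 Y) = (TD φ).map (c • 𝟙 Y) ≫ (TD φ).map (d • 𝟙 Y) := by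
  rw [← Functor.map_comp, Linear.comp_smul, Category.comp_id, smul_smul, mul_comm]

lemma TD_map_smul_algebra (φ : B →+* C) (Y : Dual.D C) (b : B) (c : C) :
    (TD φ).map ((φ b * c) • 𝟙 Y) = b • (TD φ).map (c • 𝟙 Y) := by
  rw [TD_map_smul_mul, restrictD_smul_id, Linear.smul_comp, Category.id_comp]

omit [PreservesFiniteLimits (exF φ)] in
lemma aeval_postE {W : Dual.D B} (Y : Dual.D C) (p : B[X]) (u : W ⟶ (TD φ).obj Y) :
    aeval (postE φ Y x) p u = u ≫ (TD φ).map (eval₂ φ x p • 𝟙 Y) := by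
  have hp : ∀ (n : ℕ) (u : W ⟶ (TD φ).obj Y),
      ((postE φ Y x) ^ n) u = u ≫ (TD φ).map (x ^ n • 𝟙 Y) := by
    intro n
    induction n with
    | zero =>
      intro u
      rw [pow_zero, pow_zero, one_smul, CategoryTheory.Functor.map_id, Category.comp_id]; rfl
    | succ n ih =>
      intro u
      rw [pow_succ', Module.End.mul_apply, ih, pow_succ, TD_map_smul_mul, ← Category.assoc]; rfl
  induction p using Polynomial.induction_on' with
  | add p q hp hq =>
    rw [map_add, LinearMap.add_apply, hp, hq, eval₂_add, add_smul, Functor.map_add, Preadditive.comp_add]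
  | monomial n b =>
    rw [aeval_monomial, eval₂_monomial, TD_map_smul_algebra, Linear.comp_smul, ← hp]
    rfl

omit [PreservesFiniteLimits (exF φ)] in
lemma aeval_preE {W : Dual.D B} (N : Dual.D C) (p : B[X]) (u : (TD φ).obj N ⟶ W) :
    aeval (preE φ N x) p u = (TD φ).map (eval₂ φ x p • 𝟙 N) ≫ u := by
  have hp : ∀ (n : ℕ) (u : (TD φ).obj N ⟶ W),
      ((preE φ N x) ^ n) u = (TD φ).map (x ^ n • 𝟙 N) ≫ u := by
    intro n
    induction n with
    | zero =>
      intro u
      rw [pow_zero, pow_zero, one_smul, CategoryTheory.Functor.map_id, Category.id_comp]; rfl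
    | succ n ih =>
      intro u
      rw [pow_succ', Module.End.mul_apply, ih, pow_succ', TD_map_smul_mul, Category.assoc]; rfl
  induction p using Polynomial.induction_on' with
  | add p q hp hq =>
    rw [map_add, LinearMap.add_apply, hp, hq, eval₂_add, add_smul, Functor.map_add, Preadditive.add_comp]
  | monomial n b =>
    rw [aeval_monomial, eval₂_monomial, TD_map_smul_algebra, Linear.smul_comp, ← hp]
    rfl

/-- The long exact sequence of `Hom(-, K ⊗ C)` is short exact, split by the constants. -/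
theorem core (hx : IsPolyVar φ x) (g : B[X]) (hg : g.Monic) (hd : 0 < g.natDegree) (N : Dual.D C)
    (hN : eval₂ φ x g • 𝟙 N = 0) (K : Dual.D B) :
    (∀ w : (GD φ).obj ((TD φ).obj N) ⟶ (GD φ).obj K, thetaD x N ≫ w = 0 → w = 0) ∧
      (∀ (h : (TD φ).obj N ⟶ K) (w : (GD φ).obj ((TD φ).obj N) ⟶ (GD φ).obj K),
        thetaD x N ≫ w = (GD φ).map h → h = 0) ∧
      ∀ w : (GD φ).obj ((TD φ).obj N) ⟶ (GD φ).obj K,
        ∃ (h : (TD φ).obj N ⟶ K) (v : (GD φ).obj ((TD φ).obj N) ⟶ (GD φ).obj K),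
          w = (GD φ).map h + thetaD x N ≫ v := by
  obtain ⟨r, q, hq, hr, hpow, hdec⟩ := exists_polyData hx g hg K
  let W := (TD φ).obj N
  let P : Module.End B (W ⟶ (TD φ).obj ((GD φ).obj K)) := postE φ ((GD φ).obj K) x
  let Q : Module.End B (W ⟶ (TD φ).obj ((GD φ).obj K)) := preE φ N x
  let ι : (W ⟶ K) →ₗ[B] (W ⟶ (TD φ).obj ((GD φ).obj K)) :=
    Linear.rightComp B W ((gtAdj φ).unit.app K)
  let ρ : (W ⟶ (TD φ).obj ((GD φ).obj K)) →ₗ[B] (W ⟶ K) :=
    Linear.rightComp B W (r (g.natDegree - 1))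
  have hPQ : Commute P Q := LinearMap.ext fun u => by
    show ((TD φ).map (x • 𝟙 N) ≫ u) ≫ (TD φ).map (x • 𝟙 ((GD φ).obj K)) =
      (TD φ).map (x • 𝟙 N) ≫ u ≫ (TD φ).map (x • 𝟙 ((GD φ).obj K))
    exact Category.assoc _ _ _
  obtain ⟨hinj, hι, hsurj⟩ := polyAlg P Q hPQ (preE φ N x) ι
    (fun h => by
      show (TD φ).map (x • 𝟙 N) ≫ h ≫ (gtAdj φ).unit.app K =
        ((TD φ).map (x • 𝟙 N) ≫ h) ≫ (gtAdj φ).unit.app K
      exact (Category.assoc _ _ _).symm) g hg hd
    (LinearMap.ext fun u => by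
      rw [aeval_preE, hN, Functor.map_zero, Limits.zero_comp]; rfl)
    (fun u => u ≫ q)
    (fun u => by
      show (aeval (postE φ ((GD φ).obj K) x) g u) ≫ q = u
      rw [aeval_postE, Category.assoc, hq, Category.comp_id])
    Limits.zero_comp ρ
    (fun u => by
      show (aeval (postE φ ((GD φ).obj K) x) g u) ≫ r _ = 0
      rw [aeval_postE, Category.assoc, hr, Limits.comp_zero])
    (fun i hi h => by
      have h1 := aeval_postE (φ := φ) (x := x) ((GD φ).obj K) (X ^ i) (h ≫ (gtAdj φ).unit.app K)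
      rw [map_pow, aeval_X, eval₂_pow, eval₂_X] at h1
      show ((postE φ ((GD φ).obj K) x) ^ i) (h ≫ (gtAdj φ).unit.app K) ≫ r (g.natDegree - 1) = _
      rw [h1, Category.assoc, Category.assoc, hpow _ _ hi]
      by_cases hid : i + 1 = g.natDegree
      · rw [if_pos hid, if_pos (by omega), one_smul, Category.comp_id]
      · rw [if_neg hid, if_neg (by omega), zero_smul, Limits.comp_zero])
    (fun u => ⟨fun i => u ≫ r i, u ≫ q, by
      conv_lhs => rw [← Category.comp_id u, ← hdec, Preadditive.comp_add, Preadditive.comp_sum]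
      refine congrArg₂ (· + ·) (Finset.sum_congr rfl fun i _ => ?_) ?_
      · have h1 := aeval_postE (φ := φ) (x := x) ((GD φ).obj K) (X ^ (i : ℕ))
          ((u ≫ r i) ≫ (gtAdj φ).unit.app K)
        rw [map_pow, aeval_X, eval₂_pow, eval₂_X] at h1
        refine Eq.trans ?_ h1.symm
        simp only [Category.assoc]
      · exact ((aeval_postE (φ := φ) (x := x) ((GD φ).obj K) g (u ≫ q)).trans (Category.assoc _ _ _)).symm⟩)
  let ev := (gtAdj φ).homEquiv W ((GD φ).obj K)
  have hev0 : ev 0 = 0 := by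
    show (gtAdj φ).homEquiv _ _ 0 = 0
    rw [Adjunction.homEquiv_unit, Functor.map_zero, Limits.comp_zero]
  have hadd : ∀ a b, ev (a + b) = ev a + ev b := fun a b => by
    show (gtAdj φ).homEquiv _ _ _ = (gtAdj φ).homEquiv _ _ _ + (gtAdj φ).homEquiv _ _ _
    rw [Adjunction.homEquiv_unit, Adjunction.homEquiv_unit, Adjunction.homEquiv_unit, Functor.map_add,
      Preadditive.comp_add]
  have hθ : ∀ w, ev (thetaD x N ≫ w) = -((P - Q) (ev w)) := fun w => by
    have h1 : thetaD x N ≫ w = (GD φ).map ((TD φ).map (x • 𝟙 N)) ≫ w - w ≫ (x • 𝟙 _) := by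
      rw [thetaD, Preadditive.sub_comp, Linear.smul_comp, Category.id_comp, Linear.comp_smul,
        Category.comp_id]
    show (gtAdj φ).homEquiv _ _ _ =
      -(((gtAdj φ).homEquiv _ _ w ≫ (TD φ).map (x • 𝟙 _)) -
        ((TD φ).map (x • 𝟙 N) ≫ (gtAdj φ).homEquiv _ _ w))
    rw [neg_sub, ← Adjunction.homEquiv_naturality_right, ← Adjunction.homEquiv_naturality_left, h1,
      Adjunction.homEquiv_unit, Adjunction.homEquiv_unit, Adjunction.homEquiv_unit, Functor.map_sub,
      Preadditive.comp_sub]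
  have hG : ∀ h : W ⟶ K, ev ((GD φ).map h) = ι h := fun h => by
    show (gtAdj φ).homEquiv _ _ _ = h ≫ (gtAdj φ).unit.app K
    rw [Adjunction.homEquiv_unit]
    exact ((gtAdj φ).unit.naturality h).symm
  refine ⟨fun w hw => ?_, fun h w hw => ?_, fun w => ?_⟩
  · refine ev.injective (hinj ?_)
    rw [hev0, map_zero, ← neg_eq_zero, ← hθ, hw, hev0]
  · refine hι h ⟨-(ev w), ?_⟩
    rw [map_neg, ← hθ, hw, hG]
  · obtain ⟨h, v, hv⟩ := hsurj (ev w)
    refine ⟨h, ev.symm (-v), ev.injective ?_⟩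
    rw [hadd, hθ, hG, ev.apply_symm_apply, map_neg, neg_neg]
    exact hv

/-- The comparison map. -/
noncomputable def phiMap (hx : IsPolyVar φ x) (N : Dual.D C) (K : Dual.D B)
    (u : (TD φ).obj N ⟶ K) : N ⟶ ((GD φ).obj K)⟦(1 : ℤ)⟧ :=
  (delta hx).app N ≫ ((GD φ).map u)⟦(1 : ℤ)⟧'

lemma phiMap_naturality (hx : IsPolyVar φ x) {N N' : Dual.D C} (f : N' ⟶ N) (K : Dual.D B)
    (u : (TD φ).obj N ⟶ K) : phiMap hx N' K ((TD φ).map f ≫ u) = f ≫ phiMap hx N K u := by
  have h := (delta hx).naturality f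
  simp only [Functor.id_map, Functor.comp_map] at h
  rw [phiMap, phiMap, Functor.map_comp, Functor.map_comp, reassoc_of% h]

lemma phiMap_naturality_target (hx : IsPolyVar φ x) (N : Dual.D C) {K K' : Dual.D B}
    (u : (TD φ).obj N ⟶ K) (f : K ⟶ K') :
    phiMap hx N K' (u ≫ f) = phiMap hx N K u ≫ ((GD φ).map f)⟦(1 : ℤ)⟧' := by
  rw [phiMap, phiMap, Functor.map_comp, Functor.map_comp, Category.assoc]

/-- `phiMap` is bijective on objects killed by a monic polynomial in `x`. -/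
theorem phiMap_bijective (hx : IsPolyVar φ x) (g : B[X]) (hg : g.Monic) (N : Dual.D C)
    (hN : eval₂ φ x g • 𝟙 N = 0) (K : Dual.D B) : Function.Bijective (phiMap hx N K) := by
  rcases subsingleton_or_nontrivial B with hB | hB
  · have h1 : (1 : C) = 0 := by rw [← φ.map_one, Subsingleton.elim (1 : B) 0, φ.map_zero]
    have hC : ∀ {X Y : Dual.D C} (f : X ⟶ Y), f = 0 := fun f => by
      rw [← one_smul C f, h1, zero_smul]
    have hB' : ∀ {X Y : Dual.D B} (f : X ⟶ Y), f = 0 := fun f => by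
      rw [← one_smul B f, Subsingleton.elim (1 : B) 0, zero_smul]
    exact ⟨fun u v _ => (hB' u).trans (hB' v).symm, fun f => ⟨0, (hC _).trans (hC f).symm⟩⟩
  have hg' : (X * g).Monic := monic_X.mul hg
  have hd : 0 < (X * g).natDegree := by
    rw [monic_X.natDegree_mul hg, natDegree_X]; omega
  have hN' : eval₂ φ x (X * g) • 𝟙 N = 0 := by
    rw [eval₂_mul, ← smul_smul, hN, smul_zero]
  obtain ⟨-, hι, hsur⟩ := core hx (X * g) hg' hd N hN' K
  obtain ⟨hinj, -, -⟩ := core hx (X * g) hg' hd N hN' (K⟦(1 : ℤ)⟧)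
  obtain ⟨ε, hT⟩ := exists_triangle hx N
  have hεinj : ∀ f : (GD φ).obj ((TD φ).obj N) ⟶ ((GD φ).obj K)⟦(1 : ℤ)⟧,
      thetaD x N ≫ f = 0 → f = 0 := fun f hf => by
    let e := ((GD φ).commShiftIso (1 : ℤ)).app K
    have := hinj (f ≫ e.inv) (by rw [← Category.assoc, hf, Limits.zero_comp])
    rw [← cancel_mono e.inv, this, Limits.zero_comp]
  have hθδ : (delta hx).app N ≫ (thetaD x N)⟦(1 : ℤ)⟧' = 0 :=
    comp_distTriang_mor_zero₃₁ _ hT
  have hzero : ∀ u, phiMap hx N K u = 0 → u = 0 := fun u hu => by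
    obtain ⟨f, hf⟩ := Triangle.yoneda_exact₃ _ (rot_of_distTriang _ hT) _
      (show (Triangle.mk (thetaD x N) ε ((delta hx).app N)).rotate.mor₂ ≫
        ((GD φ).map u)⟦(1 : ℤ)⟧' = 0 from hu)
    obtain ⟨g', rfl⟩ := (shiftFunctor (Dual.D C) (1 : ℤ)).map_surjective
      (X := (GD φ).obj ((TD φ).obj N)) (Y := (GD φ).obj K) f
    have hf' : ((GD φ).map u)⟦(1 : ℤ)⟧' = (-(thetaD x N)⟦(1 : ℤ)⟧') ≫ g'⟦(1 : ℤ)⟧' := hf
    refine hι u (-g') ?_
    apply (shiftFunctor (Dual.D C) (1 : ℤ)).map_injective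
    rw [hf', Preadditive.comp_neg, Functor.map_neg, Functor.map_comp, Preadditive.neg_comp]
  refine ⟨fun u v huv => sub_eq_zero.1 (hzero _ ?_), fun f => ?_⟩
  · rw [phiMap, Functor.map_sub, Functor.map_sub, Preadditive.comp_sub, sub_eq_zero]
    exact huv
  · have h0 : ε ≫ f = 0 := by
      refine hεinj _ ?_
      rw [← Category.assoc]
      exact (congrArg (· ≫ f) (comp_distTriang_mor_zero₁₂ _ hT)).trans Limits.zero_comp
    obtain ⟨w', hw'⟩ := Triangle.yoneda_exact₃ _ hT f h0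
    obtain ⟨w, rfl⟩ := (shiftFunctor (Dual.D C) (1 : ℤ)).map_surjective w'
    obtain ⟨h, v, rfl⟩ := hsur w
    refine ⟨h, ?_⟩
    have h1 : (delta hx).app N ≫ ((GD φ).map h + thetaD x N ≫ v)⟦(1 : ℤ)⟧' = phiMap hx N K h := by
      rw [phiMap, Functor.map_add, Preadditive.comp_add, Functor.map_comp, reassoc_of% hθδ,
        Limits.zero_comp, add_zero]
    exact h1.symm.trans hw'.symm

end Groth.Agent.H26Dual2
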