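import Groth.Agent.H26Dual2.PolyStep
import Groth.Agent.H25DTen.Perfect
import Groth.Agent.H25DTen.EvalTen
import Groth.Agent.H4DR.PCoh.ExactF

/-!
# Morphisms in the derived category and flat base change

For `φ : P → Q` flat, `Q ⊗_P Hom(M, Z) → Hom(M, TD (GD Z))` is bijective when `M` is perfect, or when
`M` is pseudo-coherent and `Z` is bounded below.
-/

set_option autoImplicit false
set_option linter.style.haveILetI false

universe u

open CategoryTheory CategoryTheory.Limits Pretriangulated Opposite TensorProduct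

attribute [local instance] HasDerivedCategory.standard

namespace Groth.Agent.H26Dual2

variable {P Q : Type u} [CommRing P] [CommRing Q] (φ : P →+* Q)

/-- `Q` as a `P`-module. -/
noncomputable abbrev QP : ModuleCat.{u} P := (reF φ).obj (ModuleCat.of Q Q)

variable {φ} in
lemma flat_QP (hflat : φ.Flat) : Module.Flat P (QP φ) := hflat

/-- An element of `Q`. -/
abbrev toQ (q : QP φ) : Q := q

/-! ### Maps out of `P[-n]` -/

/-- `P` in degree `n`. -/
noncomputable abbrev sglP (P : Type u) [CommRing P] (n : ℤ) : DRing.Cx P :=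
  (HomologicalComplex.single (ModuleCat.{u} P) (ComplexShape.up ℤ) n).obj (ModuleCat.of P P)

lemma isKProjective_sglP (n : ℤ) : (sglP P n).IsKProjective := by
  haveI : (sglP P n).IsStrictlyLE n := (CochainComplex.isStrictlyLE_iff _ n).2 fun q hq =>
    HomologicalComplex.isZero_single_obj_X (ComplexShape.up ℤ) n _ q (by omega)
  haveI : ∀ q, CategoryTheory.Projective ((sglP P n).X q) := fun q => by
    by_cases hq : q = n
    · subst hq
      haveI : CategoryTheory.Projective (ModuleCat.of P P) :=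
        (IsProjective.iff_projective P).1 inferInstance
      exact Projective.of_iso (HomologicalComplex.singleObjXSelf (ComplexShape.up ℤ) q _).symm inferInstance
    · haveI := ModuleCat.subsingleton_of_isZero
        (HomologicalComplex.isZero_single_obj_X (ComplexShape.up ℤ) n (ModuleCat.of P P) q hq)
      exact (IsProjective.iff_projective ((sglP P n).X q)).1 inferInstance
  exact CochainComplex.isKProjective_of_projective _ n

/-- The cycles in degree `n`. -/
abbrev cycs (W : DRing.Cx P) (n : ℤ) : Submodule P (W.X n) := LinearMap.ker (W.d n (n + 1)).hom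

/-- The map given by a cycle. -/
noncomputable def cycMap {W : DRing.Cx P} {n : ℤ} (z : cycs W n) : sglP P n ⟶ W :=
  HomologicalComplex.mkHomFromSingle
    (ModuleCat.ofHom (LinearMap.toSpanSingleton P (W.X n) z.1))
    (fun j (hj : n + 1 = j) => by
      subst hj
      refine ModuleCat.hom_ext (LinearMap.ext_ring ?_)
      change W.d n (n + 1) ((1 : P) • z.1) = 0
      rw [one_smul]
      exact z.2)

lemma cycMap_f {W : DRing.Cx P} {n : ℤ} (z : cycs W n) :
    (cycMap z).f n = (HomologicalComplex.singleObjXSelf (ComplexShape.up ℤ) n (ModuleCat.of P P)).hom ≫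
      ModuleCat.ofHom (LinearMap.toSpanSingleton P (W.X n) z.1) :=
  HomologicalComplex.mkHomFromSingle_f _ _

/-- The image of `1`. -/
noncomputable def oneAt (n : ℤ) : (sglP P n).X n :=
  (HomologicalComplex.singleObjXSelf (ComplexShape.up ℤ) n (ModuleCat.of P P)).inv (1 : P)

lemma cycMap_oneAt {W : DRing.Cx P} {n : ℤ} (z : cycs W n) : (cycMap z).f n (oneAt n) = z.1 := by
  rw [cycMap_f, oneAt]
  simp only [ModuleCat.hom_comp, LinearMap.comp_apply, ← CategoryTheory.comp_apply, Iso.inv_hom_id,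
    ModuleCat.hom_ofHom, LinearMap.toSpanSingleton_apply]
  exact one_smul P _

lemma sglHom_ext {W : DRing.Cx P} {n : ℤ} {f g : sglP P n ⟶ W}
    (h : f.f n (oneAt n) = g.f n (oneAt n)) : f = g := by
  refine HomologicalComplex.from_single_hom_ext ?_
  rw [← cancel_epi (HomologicalComplex.singleObjXSelf (ComplexShape.up ℤ) n (ModuleCat.of P P)).inv]
  exact ModuleCat.hom_ext (LinearMap.ext_ring h)

lemma mem_cycs {W : DRing.Cx P} {n : ℤ} (f : sglP P n ⟶ W) : f.f n (oneAt n) ∈ cycs W n := by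
  rw [LinearMap.mem_ker]
  have h := ConcreteCategory.congr_hom (f.comm n (n + 1)) (oneAt n)
  rw [HomologicalComplex.single_obj_d, zero_comp] at h
  exact h

variable (P) in
/-- The class of a cycle. -/
noncomputable def cyc (W : DRing.Cx P) (n : ℤ) : cycs W n →ₗ[P] (DRing.toD (sglP P n) ⟶ DRing.toD W) where
  toFun z := DerivedCategory.Q.map (cycMap z)
  map_add' z z' := by
    rw [← Functor.map_add]
    exact congrArg _ (sglHom_ext (by
      rw [cycMap_oneAt, HomologicalComplex.add_f_apply]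
      exact ((congrArg₂ (· + ·) (cycMap_oneAt z) (cycMap_oneAt z')).symm)))
  map_smul' p z := by
    rw [RingHom.id_apply, ← Functor.map_smul DerivedCategory.Q]
    exact congrArg _ (sglHom_ext (by
      rw [cycMap_oneAt, HomologicalComplex.smul_f_apply]
      exact (congrArg (p • ·) (cycMap_oneAt z)).symm))

lemma cyc_surjective (W : DRing.Cx P) (n : ℤ) : Function.Surjective (cyc P W n) := fun u => by
  haveI := isKProjective_sglP (P := P) n
  obtain ⟨g, rfl⟩ := H16Derived.ProjLift.Q_map_surjective (sglP P n) W u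
  exact ⟨⟨_, mem_cycs g⟩, congrArg DerivedCategory.Q.map (sglHom_ext (cycMap_oneAt _))⟩

/-- The differential, as a map into the cycles. -/
noncomputable abbrev bnd (W : DRing.Cx P) (n : ℤ) : W.X (n - 1) →ₗ[P] cycs W n :=
  (W.d (n - 1) n).hom.codRestrict _ fun x => by
    rw [LinearMap.mem_ker]
    exact ConcreteCategory.congr_hom (W.d_comp_d (n - 1) n (n + 1)) x

lemma cyc_bnd (W : DRing.Cx P) (n : ℤ) : (cyc P W n).comp (bnd W n) = 0 := by
  refine LinearMap.ext fun y => ?_
  let hh : ∀ i j, (ComplexShape.up ℤ).Rel j i → ((sglP P n).X i ⟶ W.X j) := fun i j hji =>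
    if hi : i = n then
      (HomologicalComplex.singleObjXIsoOfEq (ComplexShape.up ℤ) n (ModuleCat.of P P) i hi).hom ≫
        ModuleCat.ofHom (LinearMap.toSpanSingleton P (W.X (n - 1)) y) ≫
          (W.XIsoOfEq (show n - 1 = j by subst hi; have : j + 1 = i := hji; omega)).hom
    else 0
  have e : cycMap (bnd W n y) = Homotopy.nullHomotopicMap' hh := by
    refine HomologicalComplex.from_single_hom_ext ?_
    rw [Homotopy.nullHomotopicMap'_f (show (ComplexShape.up ℤ).Rel (n - 1) n by simp)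
      (show (ComplexShape.up ℤ).Rel n (n + 1) by simp), cycMap_f, HomologicalComplex.single_obj_d,
      zero_comp, zero_add]
    simp only [hh, dif_pos, Category.assoc, HomologicalComplex.XIsoOfEq_rfl, Iso.refl_hom,
      Category.id_comp]
    congr 1
    exact ModuleCat.hom_ext (LinearMap.ext_ring (by simp [bnd]))
  show DerivedCategory.Q.map (cycMap (bnd W n y)) = 0
  rw [e, DerivedCategory.Q_map_eq_of_homotopy (h := Homotopy.nullHomotopy' hh), Functor.map_zero]

lemma cyc_eq_zero {W : DRing.Cx P} {n : ℤ} {z : cycs W n} (hz : cyc P W n z = 0) :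
    ∃ y, bnd W n y = z := by
  haveI := isKProjective_sglP (P := P) n
  obtain ⟨H⟩ := H16Derived.ProjLift.homotopic_of_Q_map (sglP P n) W (cycMap z) 0
    (hz.trans (Functor.map_zero _ _ _).symm)
  refine ⟨H.hom n (n - 1) (oneAt n), Subtype.ext ?_⟩
  have hc := H.comm n
  rw [dNext_eq _ (show (ComplexShape.up ℤ).Rel n (n + 1) by simp),
    prevD_eq _ (show (ComplexShape.up ℤ).Rel (n - 1) n by simp), HomologicalComplex.single_obj_d,
    zero_comp, zero_add, HomologicalComplex.zero_f, add_zero] at hc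
  exact ((ConcreteCategory.congr_hom hc (oneAt n)).symm.trans (cycMap_oneAt z))

/-! ### The comparison map -/

variable [PreservesFiniteLimits (exF φ)]

/-- `q ⊗ f ↦ (f ≫ η) · q`. -/
noncomputable def beta (M Z : Dual.D P) :
    (QP φ) ⊗[P] (M ⟶ Z) →ₗ[P] (M ⟶ (TD φ).obj ((GD φ).obj Z)) :=
  TensorProduct.lift (LinearMap.mk₂ P
    (fun (q : QP φ) (f : M ⟶ Z) => f ≫ (gtAdj φ).unit.app Z ≫ (TD φ).map (toQ φ q • 𝟙 _))
    (fun q q' f => by
      rw [show toQ φ (q + q') = toQ φ q + toQ φ q' from rfl, add_smul, Functor.map_add,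
        Preadditive.comp_add, Preadditive.comp_add])
    (fun p q f => by
      rw [show toQ φ (p • q) = φ p * toQ φ q from rfl, TD_map_smul_algebra, Linear.comp_smul,
        Linear.comp_smul])
    (fun q f f' => Preadditive.add_comp _ _ _ _ _ _)
    (fun p q f => Linear.smul_comp _ _ _ _ _ _))

lemma beta_tmul (M Z : Dual.D P) (q : QP φ) (f : M ⟶ Z) :
    beta φ M Z (q ⊗ₜ[P] f) = f ≫ (gtAdj φ).unit.app Z ≫ (TD φ).map (toQ φ q • 𝟙 _) :=
  TensorProduct.lift.tmul _ _

lemma beta_precomp {M M' Z : Dual.D P} (g : M ⟶ M') (t : (QP φ) ⊗[P] (M' ⟶ Z)) :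
    beta φ M Z ((Linear.leftComp P Z g).lTensor _ t) = g ≫ beta φ M' Z t := by
  induction t using TensorProduct.induction_on with
  | zero => simp
  | tmul q f =>
    rw [LinearMap.lTensor_tmul, beta_tmul, beta_tmul]
    exact Category.assoc _ _ _
  | add a b ha hb => rw [map_add, map_add, ha, hb, map_add, Preadditive.comp_add]

/-- The identification of `TD (GD Z)` on representatives. -/
noncomputable def tgIso (W : DRing.Cx P) :
    (TD φ).obj ((GD φ).obj (DRing.toD W)) ≅ DRing.toD ((reCx φ).obj ((exCx φ).obj W)) :=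
  (TD φ).mapIso ((exF φ).mapDerivedCategoryFactors.app W) ≪≫
    (reF φ).mapDerivedCategoryFactors.app ((exCx φ).obj W)

lemma unit_tgIso (W : DRing.Cx P) :
    (gtAdj φ).unit.app (DRing.toD W) ≫ (tgIso φ W).hom =
      DerivedCategory.Q.map ((adjCx' φ).unit.app W) := by
  rw [gtAdj, H16Derived.ExactAdj.mapDerivedCategoryAdj]
  erw [Adjunction.localization_unit_app]
  rw [Category.assoc]
  refine (congrArg (DerivedCategory.Q.map _ ≫ ·) ?_).trans (Category.comp_id _)
  show ((reF φ).mapDerivedCategoryFactors.inv.app _ ≫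
      (TD φ).map ((exF φ).mapDerivedCategoryFactors.inv.app W)) ≫
        (TD φ).map ((exF φ).mapDerivedCategoryFactors.hom.app W) ≫
          (reF φ).mapDerivedCategoryFactors.hom.app ((exCx φ).obj W) = 𝟙 _
  rw [Category.assoc, ← Functor.map_comp_assoc, Iso.inv_hom_id_app]
  erw [CategoryTheory.Functor.map_id, Category.id_comp]
  rw [Iso.inv_hom_id_app]

lemma smul_tgIso (W : DRing.Cx P) (c : Q) :
    (TD φ).map (c • 𝟙 ((GD φ).obj (DRing.toD W))) ≫ (tgIso φ W).hom =
      (tgIso φ W).hom ≫ DerivedCategory.Q.map ((reCx φ).map (c • 𝟙 ((exCx φ).obj W))) := by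
  have h1 := (reF φ).mapDerivedCategoryFactors.hom.naturality (c • 𝟙 ((exCx φ).obj W))
  simp only [Functor.comp_map, Functor.map_smul DerivedCategory.Q,
    CategoryTheory.Functor.map_id DerivedCategory.Q] at h1
  show (TD φ).map (c • 𝟙 _) ≫ (TD φ).map _ ≫ _ = ((TD φ).map _ ≫ _) ≫ _
  rw [Category.assoc]
  erw [← h1]
  rw [← Category.assoc, ← Functor.map_comp, Linear.smul_comp, Category.id_comp, ← Category.assoc,
    ← Functor.map_comp, Linear.comp_smul]
  erw [Category.comp_id]
  rfl

/-- `Q ⊗` cycles map to cycles. -/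
noncomputable abbrev inclT (W : DRing.Cx P) (n : ℤ) :
    (QP φ) ⊗[P] (cycs W n) →ₗ[P] (QP φ) ⊗[P] (W.X n) :=
  (cycs W n).subtype.lTensor _

lemma inclT_mem (W : DRing.Cx P) (n : ℤ) (t : (QP φ) ⊗[P] (cycs W n)) :
    (inclT φ W n t : ((reCx φ).obj ((exCx φ).obj W)).X n) ∈ cycs ((reCx φ).obj ((exCx φ).obj W)) n := by
  show (((reCx φ).obj ((exCx φ).obj W)).d n (n + 1)).hom _ = 0
  show ((W.d n (n + 1)).hom.lTensor (QP φ)) (inclT φ W n t) = (0 : (QP φ) ⊗[P] (W.X (n + 1)))
  rw [inclT, ← LinearMap.lTensor_comp_apply, show (W.d n (n + 1)).hom.comp (cycs W n).subtype = 0 from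
    LinearMap.ext fun z => z.2, LinearMap.lTensor_zero, LinearMap.zero_apply]

lemma beta_cyc (W : DRing.Cx P) (n : ℤ) (t : (QP φ) ⊗[P] (cycs W n)) :
    beta φ _ _ ((cyc P W n).lTensor _ t) ≫ (tgIso φ W).hom =
      cyc P ((reCx φ).obj ((exCx φ).obj W)) n ⟨inclT φ W n t, inclT_mem φ W n t⟩ := by
  induction t using TensorProduct.induction_on with
  | zero =>
    rw [map_zero, map_zero, zero_comp]
    exact ((congrArg _ (Subtype.ext (map_zero (inclT φ W n)))).trans (map_zero _)).symm
  | tmul q z =>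
    rw [LinearMap.lTensor_tmul, beta_tmul, Category.assoc, Category.assoc, smul_tgIso,
      ← Category.assoc ((gtAdj φ).unit.app _)]
    erw [unit_tgIso]
    show DerivedCategory.Q.map (cycMap z) ≫ _ ≫ _ = DerivedCategory.Q.map _
    rw [← Functor.map_comp, ← Functor.map_comp]
    refine congrArg _ (sglHom_ext ?_)
    rw [cycMap_oneAt]
    simp only [HomologicalComplex.comp_f, ModuleCat.hom_comp, LinearMap.comp_apply, cycMap_oneAt]
    exact congrArg (fun y : QP φ => y ⊗ₜ[P] (z.1 : W.X n)) (mul_one (toQ φ q))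
  | add a b ha hb =>
    rw [map_add, map_add, Preadditive.add_comp, ha, hb, ← map_add]
    exact congrArg _ (Subtype.ext (map_add (inclT φ W n) a b).symm)

theorem beta_bijective_sgl (hflat : φ.Flat) (Z : Dual.D P) (n : ℤ) :
    Function.Bijective (beta φ (DRing.toD (sglP P n)) Z) := by
  haveI := flat_QP hflat
  suffices h : ∀ W : DRing.Cx P, Function.Bijective (beta φ (DRing.toD (sglP P n)) (DRing.toD W)) by
    obtain ⟨W, ⟨e⟩⟩ : ∃ W : DRing.Cx P, Nonempty (DRing.toD W ≅ Z) :=
      ⟨_, ⟨DerivedCategory.Q.objObjPreimageIso Z⟩⟩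
    let e' := (Linear.homCongr P (Iso.refl (DRing.toD (sglP P n))) e).lTensor (QP φ)
    let e'' := Linear.homCongr P (Iso.refl (DRing.toD (sglP P n))) ((TD φ).mapIso ((GD φ).mapIso e))
    have hc : ∀ t, beta φ _ Z (e' t) = e'' (beta φ _ _ t) := fun t => by
      induction t using TensorProduct.induction_on with
      | zero => simp only [map_zero]
      | tmul q f =>
        simp only [e', e'', LinearEquiv.lTensor_tmul, beta_tmul, Linear.homCongr_apply,
          Iso.refl_inv, Category.id_comp, Category.assoc, Functor.mapIso_hom]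
        have hn := (gtAdj φ).unit.naturality e.hom
        simp only [Functor.id_map, Functor.comp_map] at hn
        erw [reassoc_of% hn]
        rw [← Functor.map_comp, ← Functor.map_comp, Linear.comp_smul, Linear.smul_comp,
          Category.comp_id, Category.id_comp]
      | add a b ha hb => simp only [map_add, ha, hb]
    have : ⇑(beta φ _ Z) = e'' ∘ beta φ _ _ ∘ e'.symm := funext fun t => by
      rw [Function.comp_apply, Function.comp_apply, ← hc, e'.apply_symm_apply]
    rw [this]
    exact e''.bijective.comp ((h W).comp e'.symm.bijective)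
  intro W
  have hex : Function.Exact (inclT φ W n) ((W.d n (n + 1)).hom.lTensor (QP φ)) :=
    Module.Flat.lTensor_exact _ (LinearMap.exact_subtype_ker_map _)
  have hinj : Function.Injective (inclT φ W n) :=
    Module.Flat.lTensor_preserves_injective_linearMap _ Subtype.val_injective
  refine ⟨(injective_iff_map_eq_zero _).2 fun t ht => ?_, fun u => ?_⟩
  · obtain ⟨w, rfl⟩ := LinearMap.lTensor_surjective (QP φ) (cyc_surjective W n) t
    have h0 := beta_cyc φ W n w
    rw [ht, zero_comp] at h0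
    obtain ⟨y, hy⟩ := cyc_eq_zero h0.symm
    let y' : (QP φ) ⊗[P] (W.X (n - 1)) := y
    have hw : (bnd W n).lTensor (QP φ) y' = w := hinj (by
      rw [inclT, ← LinearMap.lTensor_comp_apply, LinearMap.subtype_comp_codRestrict]
      exact congrArg Subtype.val hy)
    rw [← hw, ← LinearMap.lTensor_comp_apply, cyc_bnd, LinearMap.lTensor_zero, LinearMap.zero_apply]
  · obtain ⟨z, hz⟩ := cyc_surjective ((reCx φ).obj ((exCx φ).obj W)) n (u ≫ (tgIso φ W).hom)
    obtain ⟨w, hw⟩ := (hex z.1).1 (LinearMap.mem_ker.1 z.2)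
    refine ⟨(cyc P W n).lTensor _ w, (cancel_mono (tgIso φ W).hom).1 ?_⟩
    rw [beta_cyc, ← hz]
    exact congrArg _ (Subtype.ext hw)

/-! ### Dévissage -/

/-- `M ↦ Q ⊗ Hom(M, Z)`. -/
noncomputable def srcF (Z : Dual.D P) : (Dual.D P)ᵒᵖ ⥤ AddCommGrpCat.{u + 1} where
  obj M := AddCommGrpCat.of ((QP φ) ⊗[P] (M.unop ⟶ Z))
  map g := AddCommGrpCat.ofHom ((Linear.leftComp P Z g.unop).lTensor (QP φ)).toAddMonoidHom
  map_id M := by
    refine AddCommGrpCat.hom_ext (AddMonoidHom.ext fun t => ?_)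
    have : Linear.leftComp P Z (𝟙 M).unop = LinearMap.id := LinearMap.ext fun f => Category.id_comp f
    show (Linear.leftComp P Z (𝟙 M).unop).lTensor (QP φ) t = t
    rw [this, LinearMap.lTensor_id]; rfl
  map_comp g h := by
    refine AddCommGrpCat.hom_ext (AddMonoidHom.ext fun t => ?_)
    have : Linear.leftComp P Z (g ≫ h).unop =
        (Linear.leftComp P Z h.unop).comp (Linear.leftComp P Z g.unop) :=
      LinearMap.ext fun f => (Category.assoc _ _ _ : (h.unop ≫ g.unop) ≫ f = h.unop ≫ g.unop ≫ f)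
    show (Linear.leftComp P Z (g ≫ h).unop).lTensor (QP φ) t = _
    rw [this, LinearMap.lTensor_comp]; rfl

/-- `M ↦ Hom(M, TD (GD Z))`. -/
noncomputable abbrev tgtF (Z : Dual.D P) : (Dual.D P)ᵒᵖ ⥤ AddCommGrpCat.{u + 1} :=
  preadditiveYoneda.obj ((TD φ).obj ((GD φ).obj Z))

/-- The comparison, naturally in the source. -/
noncomputable def betaNat (Z : Dual.D P) : srcF φ Z ⟶ tgtF φ Z where
  app M := AddCommGrpCat.ofHom (beta φ M.unop Z).toAddMonoidHom
  naturality M M' g := AddCommGrpCat.hom_ext (AddMonoidHom.ext fun t => beta_precomp φ g.unop t)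

lemma exact_leftComp (Z : Dual.D P) (T : Triangle (Dual.D P)) (hT : T ∈ distTriang _) :
    Function.Exact (Linear.leftComp P Z T.mor₂) (Linear.leftComp P Z T.mor₁) := fun f =>
  ⟨fun hf => (Triangle.yoneda_exact₂ T hT f hf).imp fun g hg => hg.symm, by
    rintro ⟨g, rfl⟩
    show T.mor₁ ≫ T.mor₂ ≫ g = 0
    rw [← Category.assoc, comp_distTriang_mor_zero₁₂ _ hT, zero_comp]⟩

lemma isExactOp_tgtF (Z : Dual.D P) : H25DTen.Dev.IsExactOp (tgtF φ Z) := fun T hT =>
  exact_leftComp ((TD φ).obj ((GD φ).obj Z)) T hT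

lemma isExactOp_srcF (hflat : φ.Flat) (Z : Dual.D P) : H25DTen.Dev.IsExactOp (srcF φ Z) := fun T hT =>
  haveI := flat_QP hflat
  Module.Flat.lTensor_exact _ (exact_leftComp Z T hT)

lemma beta_bijective_of_retract (Z : Dual.D P) {K L : Dual.D P} (i : K ⟶ L) (r : L ⟶ K)
    (h : i ≫ r = 𝟙 K) (hL : Function.Bijective (beta φ L Z)) : Function.Bijective (beta φ K Z) :=
  H25DTen.bijective_of_retract (betaNat φ Z) r.op i.op
    (by rw [← op_comp, h]; exact op_id) hL

theorem beta_bijective_of_isPerfect (hflat : φ.Flat) {M : Dual.D P} (hM : DRing.IsPerfect P M)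
    (Z : Dual.D P) (k : ℤ) : Function.Bijective (beta φ (M⟦k⟧) Z) := by
  revert k
  refine H25DTen.perfect_induction (fun M => ∀ k : ℤ, Function.Bijective (beta φ (M⟦k⟧) Z)) ?_ ?_ ?_ hM
  · intro K L i r h h' k
    exact beta_bijective_of_retract φ Z (i⟦k⟧') (r⟦k⟧')
      (by rw [← Functor.map_comp, h, CategoryTheory.Functor.map_id]) (h' k)
  · exact fun T hT h₁ h₃ k => H25DTen.Dev.bijective_shift_ext_op (betaNat φ Z)
      (isExactOp_srcF φ hflat Z) (isExactOp_tgtF φ Z) T hT h₁ h₃ k
  · intro j k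
    let e : DRing.toD (sglP P (-(j + k))) ≅ (H25DTen.S P j)⟦k⟧ :=
      DerivedCategory.Q.mapIso (H25DTen.singleUnitIso (-(j + k))) ≪≫ eqToIso (by rw [neg_neg]) ≪≫
        (H25DTen.shiftSIso j k).symm
    exact beta_bijective_of_retract φ Z e.inv e.hom e.inv_hom_id (beta_bijective_sgl φ hflat Z _)

lemma isPerfect_of_isFFCx {E : DRing.Cx P} (hE : H4DR.PCoh.IsFFCx E) :
    DRing.IsPerfect P (DRing.toD E) := by
  obtain ⟨a, b, h, hF⟩ := hE
  refine ⟨E, a, b, h, fun i => ?_, ⟨Iso.refl _⟩⟩
  haveI := (hF i).1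
  haveI := (hF i).2
  exact ⟨inferInstance, inferInstance⟩

lemma subsingleton_tensor {M : Type*} [AddCommGroup M] [Module P M] [Subsingleton M] :
    Subsingleton ((QP φ) ⊗[P] M) :=
  subsingleton_of_forall_eq 0 fun t => by
    induction t using TensorProduct.induction_on with
    | zero => rfl
    | tmul q m => rw [Subsingleton.elim m 0, TensorProduct.tmul_zero]
    | add a b ha hb => rw [ha, hb, add_zero]

theorem beta_bijective_of_pc (hflat : φ.Flat) {M : Dual.D P}
    (hM : ∀ m : ℤ, DRing.IsPseudoCoherent P m M) {Z : Dual.D P} {c : ℤ}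
    (hZ : ∀ i, i < c → Subsingleton (Dual.HD P Z i)) : Function.Bijective (beta φ M Z) := by
  obtain ⟨E, α, hE, hα⟩ := H4DR.PCoh.pc_iff.1 (hM (c - 2))
  obtain ⟨C, g, h, hT⟩ := distinguished_cocone_triangle α
  let T := Triangle.mk α g h
  have hC := (H4DR.PCoh.good_iff_cone _ T hT).1 hα
  haveI hC' : C.IsLE (c - 3) := (DerivedCategory.isLE_iff C _).2 fun i hi =>
    ModuleCat.isZero_of_iff_subsingleton.2 (hC i (by omega))
  have hZ' : ∀ i, i < c → Subsingleton (Dual.HD P ((TD φ).obj ((GD φ).obj Z)) i) := fun i hi =>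
    H4DR.PCoh.subsingleton_map (reF φ) (H4DR.PCoh.subsingleton_map (exF φ) (hZ i hi))
  haveI h1 : Z.IsGE c := (DerivedCategory.isGE_iff Z c).2 fun i hi =>
    ModuleCat.isZero_of_iff_subsingleton.2 (hZ i hi)
  haveI h2 : ((TD φ).obj ((GD φ).obj Z)).IsGE c := (DerivedCategory.isGE_iff _ c).2 fun i hi =>
    ModuleCat.isZero_of_iff_subsingleton.2 (hZ' i hi)
  have htriv : ∀ (W : Dual.D P) (a : ℤ), W.IsLE a → a < c → Function.Bijective (beta φ W Z) := by
    intro W a hW ha
    haveI : Subsingleton (W ⟶ Z) := subsingleton_of_forall_eq 0 fun f =>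
      DerivedCategory.TStructure.t.zero_of_isLE_of_isGE f a c ha hW h1
    haveI : Subsingleton (W ⟶ (TD φ).obj ((GD φ).obj Z)) := subsingleton_of_forall_eq 0 fun f =>
      DerivedCategory.TStructure.t.zero_of_isLE_of_isGE f a c ha hW h2
    haveI := subsingleton_tensor φ (M := (W ⟶ Z))
    exact ⟨fun a b _ => Subsingleton.elim a b, fun b => ⟨0, Subsingleton.elim _ _⟩⟩
  have hp := beta_bijective_of_isPerfect φ hflat (isPerfect_of_isFFCx hE) Z
  refine H25DTen.Dev.bijective_obj₂_op (betaNat φ Z) (isExactOp_srcF φ hflat Z) (isExactOp_tgtF φ Z)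
    T hT (htriv _ (c - 2) ?_ (by omega)) ?_ (htriv C (c - 3) hC' (by omega)) (hp 1)
  · exact DerivedCategory.TStructure.t.isLE_shift C (c - 3) (-1) (c - 2)
  · exact beta_bijective_of_retract φ Z ((shiftFunctorZero (Dual.D P) ℤ).inv.app _)
      ((shiftFunctorZero (Dual.D P) ℤ).hom.app _) (Iso.inv_hom_id_app _ _) (hp 0)

end Groth.Agent.H26Dual2
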