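import Groth.Agent.H26Dual2.PolyStep
import Mathlib.Algebra.MvPolynomial.Equiv
import Mathlib.CategoryTheory.Adjunction.Unique
import Mathlib.CategoryTheory.Yoneda
import Mathlib.RingTheory.IntegralClosure.Algebra.Basic
import Mathlib.Algebra.Category.ModuleCat.Descent

/-!
# Duality for polynomial rings

`ShriekDual φ ψ n`: for `φ : B → P` and `ψ : P → A`, `RHom_P(A, K ⊗_B P)[n]` computes `RHom_B(A, K)`,
phrased through the functors they corepresent.  It holds for a polynomial ring in `n` variables as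
soon as `A` is integral over `B`.
-/

set_option autoImplicit false
set_option linter.style.haveILetI false

universe u

open CategoryTheory CategoryTheory.Limits Opposite

attribute [local instance] HasDerivedCategory.standard

namespace Groth.Agent.H26Dual2

variable {B P A : Type u} [CommRing B] [CommRing P] [CommRing A]

/-- `RHom_P(A, G K)[n] = RHom_B(A, K)`, with `G` left adjoint to restriction along `φ`. -/
def ShriekDual (φ : B →+* P) (ψ : P →+* A) (n : ℤ) : Prop :=
  ∀ (G : Dual.D B ⥤ Dual.D P) (_ : G ⊣ TD φ) (K : Dual.D B),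
    Nonempty ((TD ψ ⋙ TD φ).op ⋙ yoneda.obj K ≅ (TD ψ).op ⋙ yoneda.obj ((G.obj K)⟦n⟧))

/-- `restrictD` of a composite. -/
noncomputable def tdComp (f : B →+* P) (g : P →+* A) : TD (g.comp f) ≅ TD g ⋙ TD f :=
  let W := HomologicalComplex.quasiIso (ModuleCat.{u} A) (ComplexShape.up ℤ)
  let F₁ := reCx (g.comp f) ⋙ DerivedCategory.Q
  let F₂ := reCx g ⋙ reCx f ⋙ DerivedCategory.Q
  letI : Localization.Lifting DerivedCategory.Q W F₁ (TD (g.comp f)) :=
    ⟨(reF (g.comp f)).mapDerivedCategoryFactors⟩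
  letI : Localization.Lifting DerivedCategory.Q W F₂ (TD g ⋙ TD f) :=
    ⟨(Functor.associator _ _ _).symm ≪≫
      Functor.isoWhiskerRight (reF g).mapDerivedCategoryFactors (TD f) ≪≫ Functor.associator _ _ _ ≪≫
      Functor.isoWhiskerLeft _ (reF f).mapDerivedCategoryFactors⟩
  Localization.liftNatIso DerivedCategory.Q W F₁ F₂ _ _
    (Functor.isoWhiskerRight
      (NatIso.mapHomologicalComplex (ModuleCat.restrictScalarsComp' f g _ rfl) (ComplexShape.up ℤ) ≪≫
        NatIso.ofComponents (G := reCx g ⋙ reCx f) (fun _ => Iso.refl _)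
          (fun _ => (Category.comp_id _).trans (Category.id_comp _).symm))
      DerivedCategory.Q ≪≫ Functor.associator _ _ _)

/-- Restriction along a bijection is fully faithful: the degree zero case. -/
theorem shriekDual_of_bijective (φ : B →+* P) (hφ : Function.Bijective φ) (ψ : P →+* A) :
    ShriekDual φ ψ 0 := by
  let e : B ≃+* P := RingEquiv.ofBijective φ hφ
  intro G adj K
  have heq : (ModuleCat.restrictScalars.{u} φ).IsEquivalence :=
    (ModuleCat.restrictScalarsEquivalenceOfRingEquiv e).isEquivalence_functor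
  haveI : PreservesFiniteLimits (exF φ) :=
    ModuleCat.preservesFiniteLimits_extendScalars_of_flat (RingHom.Flat.of_bijective hφ)
  let adj' := gtAdj φ
  haveI := heq
  haveI : IsIso (erAdj φ).unit := inferInstance
  haveI hu : ∀ X, IsIso (adj'.unit.app X) := fun X => by
    obtain ⟨X₀, ⟨i⟩⟩ : ∃ X₀ : DRing.Cx B, Nonempty (DRing.toD X₀ ≅ X) :=
      ⟨_, ⟨DerivedCategory.Q.objObjPreimageIso X⟩⟩
    refine (NatTrans.isIso_app_iff_of_iso adj'.unit i).1 ?_
    show IsIso ((H16Derived.ExactAdj.mapDerivedCategoryAdj (erAdj φ)).unit.app (DerivedCategory.Q.obj X₀))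
    rw [H16Derived.ExactAdj.mapDerivedCategoryAdj]
    erw [Adjunction.localization_unit_app]
    haveI : ∀ n, IsIso (((adjCx' φ).unit.app X₀).f n) := fun n =>
      inferInstanceAs (IsIso ((erAdj φ).unit.app (X₀.X n)))
    haveI : IsIso ((adjCx' φ).unit.app X₀) :=
      HomologicalComplex.Hom.isIso_of_components _
    infer_instance
  haveI : IsIso (adj.unit.app K) := by
    rw [← Adjunction.unit_leftAdjointUniq_hom_app adj' adj K]
    infer_instance
  let z : K ≅ (TD φ).obj ((G.obj K)⟦(0 : ℤ)⟧) :=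
    asIso (adj.unit.app K) ≪≫ (TD φ).mapIso ((shiftFunctorZero (Dual.D P) ℤ).app (G.obj K)).symm
  haveI : IsIso adj'.counit := by
    haveI : IsIso (erAdj φ).counit := inferInstance
    haveI : ∀ Y, IsIso (adj'.counit.app Y) := fun Y => by
      obtain ⟨Y₀, ⟨i⟩⟩ : ∃ Y₀ : DRing.Cx P, Nonempty (DRing.toD Y₀ ≅ Y) :=
        ⟨_, ⟨DerivedCategory.Q.objObjPreimageIso Y⟩⟩
      refine (NatTrans.isIso_app_iff_of_iso adj'.counit i).1 ?_
      show IsIso ((H16Derived.ExactAdj.mapDerivedCategoryAdj (erAdj φ)).counit.app (DerivedCategory.Q.obj Y₀))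
      rw [H16Derived.ExactAdj.mapDerivedCategoryAdj]
      erw [Adjunction.localization_counit_app]
      haveI : ∀ n, IsIso (((adjCx' φ).counit.app Y₀).f n) := fun n =>
        inferInstanceAs (IsIso ((erAdj φ).counit.app (Y₀.X n)))
      haveI : IsIso ((adjCx' φ).counit.app Y₀) :=
        HomologicalComplex.Hom.isIso_of_components _
      infer_instance
    exact NatIso.isIso_of_isIso_app _
  let F := adj'.fullyFaithfulROfIsIsoCounit
  exact ⟨Functor.isoWhiskerLeft _ (yoneda.mapIso z) ≪≫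
    NatIso.ofComponents (fun N => (F.homEquiv.symm).toIso) (fun {N N'} f => by
      ext u
      exact F.map_injective (by simp [F.map_preimage]))⟩

/-- One variable. -/
theorem shriekDual_polyVar {φ : B →+* P} {x : P} (hx : IsPolyVar φ x) (ψ : P →+* A)
    (hint : (ψ.comp φ).IsIntegralElem (ψ x)) : ShriekDual φ ψ 1 := by
  haveI : PreservesFiniteLimits (exF φ) := ModuleCat.preservesFiniteLimits_extendScalars_of_flat hx.flat
  obtain ⟨g, hg, hgx⟩ := hint
  have h0 : ψ (Polynomial.eval₂ φ x g) = 0 := by rw [Polynomial.hom_eval₂]; exact hgx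
  have hkill : ∀ N : Dual.D A, Polynomial.eval₂ φ x g • 𝟙 ((TD ψ).obj N) = 0 := fun N => by
    rw [← restrictD_smul_id ψ N, h0, zero_smul, Functor.map_zero]
  intro G adj K
  let i : (GD φ).obj K ≅ G.obj K := ((gtAdj φ).leftAdjointUniq adj).app K
  refine ⟨NatIso.ofComponents
    (G := (TD ψ).op ⋙ yoneda.obj (((GD φ).obj K)⟦(1 : ℤ)⟧)) (fun N => (Equiv.ofBijective
    (phiMap hx ((TD ψ).obj N.unop) K)
    (phiMap_bijective hx g hg _ (hkill N.unop) K)).toIso) (fun {N N'} f => ?_) ≪≫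
    Functor.isoWhiskerLeft _ (yoneda.mapIso ((shiftFunctor (Dual.D P) (1 : ℤ)).mapIso i))⟩
  ext u
  exact phiMap_naturality hx ((TD ψ).map f.unop) K u

/-- Composition. -/
theorem ShriekDual.comp {Q : Type u} [CommRing Q] {φ₁ : B →+* P} {φ₂ : P →+* Q} {ψ : Q →+* A}
    {n m k : ℤ} (hk : n + m = k) (h₁f : φ₁.Flat) (h₂f : φ₂.Flat)
    (h₁ : ShriekDual φ₁ (ψ.comp φ₂) n) (h₂ : ShriekDual φ₂ ψ m) :
    ShriekDual (φ₂.comp φ₁) ψ k := by
  haveI : PreservesFiniteLimits (exF φ₁) := ModuleCat.preservesFiniteLimits_extendScalars_of_flat h₁f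
  haveI : PreservesFiniteLimits (exF φ₂) := ModuleCat.preservesFiniteLimits_extendScalars_of_flat h₂f
  intro G adj K
  let adj' : GD φ₁ ⋙ GD φ₂ ⊣ TD (φ₂.comp φ₁) :=
    ((gtAdj φ₁).comp (gtAdj φ₂)).ofNatIsoRight (tdComp φ₁ φ₂).symm
  let i : (GD φ₂).obj ((GD φ₁).obj K) ≅ G.obj K := (adj'.leftAdjointUniq adj).app K
  obtain ⟨a⟩ := h₁ (GD φ₁) (gtAdj φ₁) K
  obtain ⟨b⟩ := h₂ (GD φ₂) (gtAdj φ₂) (((GD φ₁).obj K)⟦n⟧)
  let s : ((GD φ₂).obj (((GD φ₁).obj K)⟦n⟧))⟦m⟧ ≅ (G.obj K)⟦k⟧ :=
    (shiftFunctor (Dual.D Q) m).mapIso (((GD φ₂).commShiftIso n).app _) ≪≫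
      ((shiftFunctorAdd' (Dual.D Q) n m k hk).app _).symm ≪≫ (shiftFunctor (Dual.D Q) k).mapIso i
  let c : TD ψ ⋙ TD (φ₂.comp φ₁) ≅ TD (ψ.comp φ₂) ⋙ TD φ₁ :=
    Functor.isoWhiskerLeft (TD ψ) (tdComp φ₁ φ₂) ≪≫ (Functor.associator _ _ _).symm ≪≫
      Functor.isoWhiskerRight (tdComp φ₂ ψ).symm (TD φ₁)
  exact ⟨Functor.isoWhiskerRight (NatIso.op c.symm) (yoneda.obj K) ≪≫ a ≪≫
    Functor.isoWhiskerRight (NatIso.op (tdComp φ₂ ψ).symm) (yoneda.obj _) ≪≫ b ≪≫
    Functor.isoWhiskerLeft _ (yoneda.mapIso s)⟩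

lemma flat_mvPolynomial_C (B : Type u) [CommRing B] (n : ℕ) :
    (MvPolynomial.C : B →+* MvPolynomial (Fin n) B).Flat :=
  RingHom.flat_algebraMap_iff.2 (inferInstanceAs (Module.Flat B (MvPolynomial (Fin n) B)))

/-- The variable `0` over the others. -/
lemma isPolyVar_X_zero (B : Type u) [CommRing B] (n : ℕ) :
    IsPolyVar ((MvPolynomial.rename (Fin.succ : Fin n → Fin (n + 1))).toRingHom :
      MvPolynomial (Fin n) B →+* MvPolynomial (Fin (n + 1)) B) (MvPolynomial.X 0) := by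
  have h : Polynomial.eval₂RingHom ((MvPolynomial.rename (Fin.succ : Fin n → Fin (n + 1))).toRingHom :
      MvPolynomial (Fin n) B →+* MvPolynomial (Fin (n + 1)) B) (MvPolynomial.X 0) =
      (MvPolynomial.finSuccEquiv B n).symm.toRingEquiv.toRingHom := by
    have key : ∀ z, MvPolynomial.finSuccEquiv B n
        (MvPolynomial.rename (Fin.succ : Fin n → Fin (n + 1)) z) = Polynomial.C z := by
      intro z
      induction z using MvPolynomial.induction_on with
      | C b => simp [MvPolynomial.finSuccEquiv_apply]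
      | add p q hp hq => simp [hp, hq]
      | mul_X p i hp => simp [hp, MvPolynomial.finSuccEquiv_X_succ]
    refine Polynomial.ringHom_ext (fun z => ?_) ?_
    · apply (MvPolynomial.finSuccEquiv B n).injective
      simp only [Polynomial.coe_eval₂RingHom, Polynomial.eval₂_C]
      exact (key z).trans ((MvPolynomial.finSuccEquiv B n).apply_symm_apply _).symm
    · apply (MvPolynomial.finSuccEquiv B n).injective
      simp only [Polynomial.coe_eval₂RingHom, Polynomial.eval₂_X]
      exact MvPolynomial.finSuccEquiv_X_zero.trans ((MvPolynomial.finSuccEquiv B n).apply_symm_apply _).symm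
  show Function.Bijective _
  rw [h]
  exact (MvPolynomial.finSuccEquiv B n).symm.bijective

/-- Polynomial rings. -/
theorem shriekDual_mvPolynomial : ∀ (n : ℕ) (ψ : MvPolynomial (Fin n) B →+* A),
    (ψ.comp MvPolynomial.C).IsIntegral → ShriekDual (MvPolynomial.C) ψ (n : ℤ)
  | 0, ψ, _ => shriekDual_of_bijective MvPolynomial.C
      ⟨MvPolynomial.C_injective _ _, fun p => ⟨p.coeff 0, (MvPolynomial.eq_C_of_isEmpty p).symm⟩⟩ ψ
  | n + 1, ψ, hint => by
    let φ₂ : MvPolynomial (Fin n) B →+* MvPolynomial (Fin (n + 1)) B :=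
      (MvPolynomial.rename (Fin.succ : Fin n → Fin (n + 1))).toRingHom
    have hC : φ₂.comp MvPolynomial.C = MvPolynomial.C := RingHom.ext fun b => by simp [φ₂]
    have h₁ : ((ψ.comp φ₂).comp MvPolynomial.C).IsIntegral := by rw [RingHom.comp_assoc, hC]; exact hint
    have h₂ : (ψ.comp φ₂).IsIntegralElem (ψ (MvPolynomial.X 0)) := by
      obtain ⟨g, hg, hgx⟩ := hint (ψ (MvPolynomial.X 0))
      refine ⟨g.map MvPolynomial.C, hg.map _, ?_⟩
      rwa [Polynomial.eval₂_map, RingHom.comp_assoc, hC]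
    have := (shriekDual_mvPolynomial n (ψ.comp φ₂) h₁).comp (k := ((n + 1 : ℕ) : ℤ)) (by push_cast; rfl)
      (flat_mvPolynomial_C B n) (isPolyVar_X_zero B n).flat
      (shriekDual_polyVar (isPolyVar_X_zero B n) ψ h₂)
    rwa [hC] at this

end Groth.Agent.H26Dual2
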