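import Groth.Agent.H26Dual2.BcFlat
import Groth.Agent.H26Dual2.PolyTower
import Groth.Agent.H25DTen.RelRep

/-!
# Flat base change for the right adjoint of restriction of scalars

For a cocartesian square `P → Q`, `A → B` with `P → Q` flat, the natural map
`GD φ' (Rψ Y) → Rχ (GD φ Y)` is an isomorphism when the base change map on morphisms out of the shifts
of `A` is bijective.
-/

set_option autoImplicit false
set_option linter.style.haveILetI false

universe u

open CategoryTheory CategoryTheory.Limits Pretriangulated Opposite TensorProduct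
open scoped ZeroObject

attribute [local instance] HasDerivedCategory.standard

namespace Groth.Agent.H26Dual2

variable {P Q A B : Type u} [CommRing P] [CommRing Q] [CommRing A] [CommRing B]
  {φ : P →+* Q} {φ' : A →+* B} {ψ : P →+* A} {χ : Q →+* B} (hsq : χ.comp φ = φ'.comp ψ)

lemma isZero_of_HD {S : Type u} [CommRing S] (C : Dual.D S)
    (hC : ∀ n, Subsingleton (Dual.HD S C n)) : IsZero C := by
  obtain ⟨K, ⟨e⟩⟩ : ∃ K : DRing.Cx S, Nonempty (DRing.toD K ≅ C) :=
    ⟨_, ⟨DerivedCategory.Q.objObjPreimageIso C⟩⟩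
  haveI : IsIso (DerivedCategory.Q.map (0 : K ⟶ 0)) := by
    haveI : QuasiIso (0 : K ⟶ (0 : DRing.Cx S)) := ⟨fun n => (quasiIsoAt_iff_isIso_homologyMap _ n).2 (by
      have h1 : IsZero (K.homology n) := (ModuleCat.isZero_of_iff_subsingleton.2 (hC n)).of_iso
        ((((DerivedCategory.homologyFunctorFactors (ModuleCat.{u} S) n).app K).symm) ≪≫
          (DerivedCategory.homologyFunctor (ModuleCat.{u} S) n).mapIso e)
      exact ⟨0, h1.eq_of_src _ _,
        ((HomologicalComplex.homologyFunctor (ModuleCat.{u} S) _ n).map_isZero (isZero_zero _)).eq_of_src _ _⟩)⟩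
    exact Localization.inverts DerivedCategory.Q
      (HomologicalComplex.quasiIso (ModuleCat.{u} S) (ComplexShape.up ℤ)) _ ‹_›
  exact ((DerivedCategory.Q (C := ModuleCat.{u} S)).map_isZero (isZero_zero _)).of_iso
    (e.symm ≪≫ asIso (DerivedCategory.Q.map (0 : K ⟶ 0)))

include hsq in
lemma sq_apply (p : P) : χ (φ p) = φ' (ψ p) := DFunLike.congr_fun hsq p

/-- An element of `Q`, in `QP`. -/
noncomputable abbrev mkQP {P Q : Type u} [CommRing P] [CommRing Q] (φ : P →+* Q) (q : Q) : QP φ := q

/-- An element of `A`. -/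
noncomputable abbrev toA {P A : Type u} [CommRing P] [CommRing A] {ψ : P →+* A}
    (a : (reF ψ).obj (ModuleCat.of A A)) : A := a

/-- An element of `A`, in the restriction. -/
noncomputable abbrev mkA {P A : Type u} [CommRing P] [CommRing A] (ψ : P →+* A) (a : A) :
    (reF ψ).obj (ModuleCat.of A A) := a

/-- An element of a restriction. -/
noncomputable abbrev mkRe {P A : Type u} [CommRing P] [CommRing A] (ψ : P →+* A) {X : ModuleCat.{u} A}
    (x : X) : (reF ψ).obj X := x

/-- `Q ⊗_P A → B`. -/
noncomputable def muMap : (QP φ) ⊗[P] ((reF ψ).obj (ModuleCat.of A A)) →+ B :=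
  TensorProduct.liftAddHom
    (AddMonoidHom.mk' (fun q : QP φ => AddMonoidHom.mk' (fun a : (reF ψ).obj (ModuleCat.of A A) =>
        χ (toQ φ q) * φ' (toA a)) fun a a' => by
          show χ (toQ φ q) * φ' (toA a + toA a') = _
          rw [map_add, mul_add]) fun q q' => AddMonoidHom.ext fun a => by
          show χ (toQ φ q + toQ φ q') * φ' (toA a) = _
          rw [map_add, add_mul]; rfl)
    fun p q a => by
      show χ (φ p * toQ φ q) * φ' (toA a) = χ (toQ φ q) * φ' (ψ p * toA a)
      rw [map_mul, map_mul, sq_apply hsq]; ring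

/-- The square is cocartesian. -/
def IsCocart : Prop := Function.Bijective (muMap hsq)

/-- `q ⊗ x ↦ χ q ⊗ x`. -/
noncomputable def bcMod (X : ModuleCat.{u} A) :
    (exF φ).obj ((reF ψ).obj X) ⟶ (reF χ).obj ((exF φ').obj X) :=
  ((erAdj φ).homEquiv ((reF ψ).obj X) ((reF χ).obj ((exF φ').obj X))).symm (ModuleCat.ofHom
    (X := (reF ψ).obj X) (Y := (reF φ).obj ((reF χ).obj ((exF φ').obj X)))
    { toFun := fun x => (erAdj φ').unit.app X x
      map_add' := fun x y => map_add ((erAdj φ').unit.app X).hom x y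
      map_smul' := fun p x => by
        refine (((erAdj φ').unit.app X).hom.map_smul (ψ p) x).trans ?_
        exact (congrArg (fun b : B => b • (show (exF φ').obj X from (erAdj φ').unit.app X x))
          (sq_apply hsq p)).symm })

lemma bcMod_tmul (X : ModuleCat.{u} A) (q : Q) (x : X) :
    bcMod hsq X (mkQP φ q ⊗ₜ[P] mkRe ψ x) = mkQP φ' (χ q) ⊗ₜ[A] x := by
  rw [bcMod, Adjunction.homEquiv_counit]
  show χ q • (show (exF φ').obj X from mkQP φ' 1 ⊗ₜ[A] x) = _
  exact congrArg (fun y : QP φ' => y ⊗ₜ[A] x) (mul_one (χ q))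

/-- As a natural transformation. -/
noncomputable def bcModNat : reF ψ ⋙ exF φ ⟶ exF φ' ⋙ reF χ where
  app := bcMod hsq
  naturality X Y f := by
    refine ModuleCat.hom_ext (LinearMap.ext fun t => ?_)
    induction t using TensorProduct.induction_on with
    | zero => exact (map_zero _).trans (map_zero _).symm
    | tmul q x =>
      show bcMod hsq Y (mkQP φ q ⊗ₜ[P] mkRe ψ (f.hom x)) =
        (exF φ').map f (bcMod hsq X (mkQP φ q ⊗ₜ[P] mkRe ψ x))
      rw [bcMod_tmul, bcMod_tmul]
      rfl
    | add a b ha hb => exact (map_add _ a b).trans ((congrArg₂ (· + ·) ha hb).trans (map_add _ a b).symm)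

variable (h : IsCocart hsq)
include h

lemma bcMod_bijective (X : ModuleCat.{u} A) : Function.Bijective (bcMod hsq X) := by
  let μ : (QP φ) ⊗[P] ((reF ψ).obj (ModuleCat.of A A)) ≃+ B :=
    AddEquiv.ofBijective (muMap hsq) h
  let act : X → ((reF ψ).obj (ModuleCat.of A A)) →ₗ[P] ((reF ψ).obj X) := fun x =>
    { toFun := fun a => mkRe ψ (toA a • x)
      map_add' := fun a a' => add_smul (toA a) (toA a') x
      map_smul' := fun p a => mul_smul (ψ p) (toA a) x }
  let G : X → B →+ (exF φ).obj ((reF ψ).obj X) := fun x =>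
    ((act x).lTensor (QP φ)).toAddMonoidHom.comp μ.symm.toAddMonoidHom
  have hG : ∀ (a : A) (b : B) (x : X), G x (φ' a * b) = G (a • x) b := fun a b x => by
    obtain ⟨w, rfl⟩ := μ.surjective b
    show (act x).lTensor _ (μ.symm (φ' a * μ w)) = (act (a • x)).lTensor _ (μ.symm (μ w))
    rw [μ.symm_apply_apply]
    induction w using TensorProduct.induction_on with
    | zero => simp
    | tmul q c =>
      have e : φ' a * μ (q ⊗ₜ[P] c) = μ (q ⊗ₜ[P] mkA ψ (a * toA c)) := by
        show φ' a * (χ (toQ φ q) * φ' (toA c)) = χ (toQ φ q) * φ' (a * toA c)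
        rw [map_mul]; ring
      rw [e, μ.symm_apply_apply, LinearMap.lTensor_tmul, LinearMap.lTensor_tmul]
      refine congrArg (fun y : (reF ψ).obj X => q ⊗ₜ[P] y) ?_
      show (a * toA c) • x = toA c • a • x
      rw [smul_smul, mul_comm]
    | add u v hu hv => rw [map_add μ, mul_add, map_add, map_add, map_add, hu, hv]
  let inv : (exF φ').obj X →+ (exF φ).obj ((reF ψ).obj X) :=
    TensorProduct.liftAddHom
      (AddMonoidHom.mk' (fun b : QP φ' => AddMonoidHom.mk' (fun x : X => G x (toQ φ' b)) fun x y => by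
          show (act (x + y)).lTensor (QP φ) _ = (act x).lTensor _ _ + (act y).lTensor _ _
          have : act (x + y) = act x + act y := LinearMap.ext fun a => smul_add (toA a) x y
          rw [this, LinearMap.lTensor_add, LinearMap.add_apply]
          rfl) fun b b' => AddMonoidHom.ext fun x =>
          map_add (G x) (toQ φ' b) (toQ φ' b'))
      fun a b x => hG a (toQ φ' b) x
  have h₁ : ∀ t, inv (bcMod hsq X t) = t := fun t => by
    induction t using TensorProduct.induction_on with
    | zero => exact (congrArg inv (map_zero _)).trans (map_zero inv)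
    | tmul q x =>
      rw [bcMod_tmul hsq X (toQ φ q) x]
      show (act x).lTensor _ (μ.symm (χ (toQ φ q))) = _
      have e : χ (toQ φ q) = μ (q ⊗ₜ[P] mkA ψ 1) := by
        show _ = χ (toQ φ q) * φ' (1 : A)
        rw [map_one, mul_one]
      rw [e, μ.symm_apply_apply, LinearMap.lTensor_tmul]
      exact congrArg (fun y : (reF ψ).obj X => q ⊗ₜ[P] y) (one_smul A x)
    | add u v hu hv =>
      exact (congrArg inv (map_add _ u v)).trans ((map_add inv _ _).trans (congrArg₂ (· + ·) hu hv))
  have h₂ : ∀ t, bcMod hsq X (inv t) = t := fun t => by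
    induction t using TensorProduct.induction_on with
    | zero => exact (congrArg _ (map_zero inv)).trans (map_zero _)
    | tmul b x =>
      obtain ⟨w, hw⟩ := μ.surjective (toQ φ' b)
      show bcMod hsq X ((act x).lTensor _ (μ.symm (toQ φ' b))) = _
      rw [← hw, μ.symm_apply_apply]
      have hw' : b = mkQP φ' (μ w) := hw.symm
      rw [hw']
      clear hw hw'
      induction w using TensorProduct.induction_on with
      | zero =>
        rw [map_zero, map_zero]
        exact (map_zero _).trans (TensorProduct.zero_tmul _ _).symm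
      | tmul q c =>
        rw [LinearMap.lTensor_tmul]
        erw [bcMod_tmul hsq X (toQ φ q) (toA c • x)]
        refine (TensorProduct.smul_tmul (toA c) (mkQP φ' (χ (toQ φ q))) x).symm.trans ?_
        refine congrArg (fun y : QP φ' => y ⊗ₜ[A] x) ?_
        show φ' (toA c) * χ (toQ φ q) = χ (toQ φ q) * φ' (toA c)
        ring
      | add u v hu hv =>
        rw [map_add, map_add μ]
        exact (map_add _ _ _).trans ((congrArg₂ (· + ·) hu hv).trans (TensorProduct.add_tmul _ _ _).symm)
    | add u v hu hv =>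
      exact (congrArg _ (map_add inv u v)).trans ((map_add _ _ _).trans (congrArg₂ (· + ·) hu hv))
  exact Function.bijective_iff_has_inverse.2 ⟨inv, h₁, h₂⟩

/-- The base change isomorphism on modules. -/
noncomputable def bcModIso : reF ψ ⋙ exF φ ≅ exF φ' ⋙ reF χ :=
  haveI : ∀ X, IsIso ((bcModNat hsq).app X) := fun X =>
    (ConcreteCategory.isIso_iff_bijective _).2 (bcMod_bijective hsq h X)
  asIso' (bcModNat hsq)
where
  /-- An isomorphism of functors from isomorphisms of objects. -/
  asIso' {F G : ModuleCat.{u} A ⥤ ModuleCat.{u} Q} (α : F ⟶ G) [∀ X, IsIso (α.app X)] : F ≅ G :=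
    NatIso.ofComponents (fun X => asIso (α.app X)) fun f => α.naturality f

variable [PreservesFiniteLimits (exF φ)] [PreservesFiniteLimits (exF φ')]

/-- The base change isomorphism on derived categories. -/
noncomputable def bcD : TD ψ ⋙ GD φ ≅ GD φ' ⋙ TD χ :=
  let W := HomologicalComplex.quasiIso (ModuleCat.{u} A) (ComplexShape.up ℤ)
  let F₁ := reCx ψ ⋙ exCx φ ⋙ DerivedCategory.Q
  let F₂ := exCx φ' ⋙ reCx χ ⋙ DerivedCategory.Q
  letI : Localization.Lifting DerivedCategory.Q W F₁ (TD ψ ⋙ GD φ) :=
    ⟨(Functor.associator _ _ _).symm ≪≫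
      Functor.isoWhiskerRight (reF ψ).mapDerivedCategoryFactors (GD φ) ≪≫ Functor.associator _ _ _ ≪≫
      Functor.isoWhiskerLeft _ (exF φ).mapDerivedCategoryFactors⟩
  letI : Localization.Lifting DerivedCategory.Q W F₂ (GD φ' ⋙ TD χ) :=
    ⟨(Functor.associator _ _ _).symm ≪≫
      Functor.isoWhiskerRight (exF φ').mapDerivedCategoryFactors (TD χ) ≪≫ Functor.associator _ _ _ ≪≫
      Functor.isoWhiskerLeft _ (reF χ).mapDerivedCategoryFactors⟩
  Localization.liftNatIso DerivedCategory.Q W F₁ F₂ _ _
    ((Functor.associator _ _ _).symm ≪≫ Functor.isoWhiskerRight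
      (NatIso.ofComponents (F := reCx ψ ⋙ exCx φ) (G := (reF ψ ⋙ exF φ).mapHomologicalComplex _)
          (fun _ => Iso.refl _) (fun _ => (Category.comp_id _).trans (Category.id_comp _).symm) ≪≫
        NatIso.mapHomologicalComplex (bcModIso hsq h) (ComplexShape.up ℤ) ≪≫
        NatIso.ofComponents (G := exCx φ' ⋙ reCx χ) (fun _ => Iso.refl _)
          (fun _ => (Category.comp_id _).trans (Category.id_comp _).symm))
      DerivedCategory.Q ≪≫ Functor.associator _ _ _)

variable {Rψ : Dual.D P ⥤ Dual.D A} (adj : TD ψ ⊣ Rψ) {Rχ : Dual.D Q ⥤ Dual.D B} (adjχ : TD χ ⊣ Rχ)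

/-- The comparison map. -/
noncomputable def theta (Y : Dual.D P) :
    (GD φ').obj (Rψ.obj Y) ⟶ Rχ.obj ((GD φ).obj Y) :=
  adjχ.homEquiv _ _ ((bcD hsq h).inv.app (Rψ.obj Y) ≫ (GD φ).map (adj.counit.app Y))

lemma theta_comp {X : Dual.D A} {Y : Dual.D P} (f : X ⟶ Rψ.obj Y) :
    (GD φ').map f ≫ theta hsq h adj adjχ Y =
      adjχ.homEquiv _ _ ((bcD hsq h).inv.app X ≫ (GD φ).map ((adj.homEquiv _ _).symm f)) := by
  rw [theta, ← Adjunction.homEquiv_naturality_left, Adjunction.homEquiv_counit, Functor.map_comp]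
  congr 1
  exact (reassoc_of% ((bcD hsq h).inv.naturality f)) _

theorem isIso_theta (Y : Dual.D P)
    (hA : ∀ k : ℤ, Function.Bijective (beta φ ((TD ψ).obj (H25DTen.S A k)) Y))
    (hW : ∀ k : ℤ, Function.Bijective (beta φ' (H25DTen.S A k) (Rψ.obj Y))) :
    IsIso (theta hsq h adj adjχ Y) := by
  haveI : IsIso ((TD φ').map (theta hsq h adj adjχ Y)) := by
    refine H25DTen.isIso_of_bijective_S _ fun k => ?_
    let N := H25DTen.S A k
    -- the composite sends `q ⊗ f` to the transpose of `(q • GD f)`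
    let post : (N ⟶ (TD φ').obj ((GD φ').obj (Rψ.obj Y))) →+
        (N ⟶ (TD φ').obj (Rχ.obj ((GD φ).obj Y))) :=
      AddMonoidHom.mk' (fun x => x ≫ (TD φ').map (theta hsq h adj adjχ Y))
        fun x y => Preadditive.add_comp _ _ _ _ _ _
    let E₁ := (gtAdj φ).homEquiv ((TD ψ).obj N) ((GD φ).obj Y)
    let E₂ := adjχ.homEquiv ((GD φ').obj N) ((GD φ).obj Y)
    let E₃ := (gtAdj φ').homEquiv N (Rχ.obj ((GD φ).obj Y))
    let T : ((TD ψ).obj N ⟶ (TD φ).obj ((GD φ).obj Y)) → (N ⟶ (TD φ').obj (Rχ.obj ((GD φ).obj Y))) :=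
      fun v => E₃ (E₂ ((bcD hsq h).inv.app N ≫ E₁.symm v))
    have hT : Function.Bijective T :=
      E₃.bijective.comp (E₂.bijective.comp (((bcD hsq h).app N).symm.homFromEquiv.symm.bijective.comp
        E₁.symm.bijective) |>.comp Function.bijective_id)
    haveI : Rχ.Additive := adjχ.right_adjoint_additive
    haveI : Rψ.Additive := adj.right_adjoint_additive
    have hTadd : ∀ v w, T (v + w) = T v + T w := fun v w => by
      simp only [T, E₁, E₂, E₃, Adjunction.homEquiv_counit, Adjunction.homEquiv_unit, Functor.map_add,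
        Preadditive.add_comp, Preadditive.comp_add]
    let α : (QP φ) ⊗[P] ((TD ψ).obj N ⟶ Y) →+ (QP φ') ⊗[A] (N ⟶ Rψ.obj Y) :=
      TensorProduct.liftAddHom (AddMonoidHom.mk' (fun q : QP φ =>
        AddMonoidHom.mk' (fun g => mkQP φ' (χ (toQ φ q)) ⊗ₜ[A] adj.homEquiv _ _ g) fun g g' => by
          rw [Adjunction.homEquiv_unit, Functor.map_add, Preadditive.comp_add, TensorProduct.tmul_add,
            ← Adjunction.homEquiv_unit, ← Adjunction.homEquiv_unit])
        fun q q' => AddMonoidHom.ext fun g => by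
          show mkQP φ' (χ (toQ φ q + toQ φ q')) ⊗ₜ[A] _ = _
          rw [map_add]; exact TensorProduct.add_tmul _ _ _)
        fun p q g => by
          show mkQP φ' (χ (φ p * toQ φ q)) ⊗ₜ[A] _ =
            mkQP φ' (χ (toQ φ q)) ⊗ₜ[A] adj.homEquiv _ _ (p • g)
          have hg : adj.homEquiv _ _ (p • g) = ψ p • adj.homEquiv _ _ g := by
            have : p • g = (TD ψ).map (ψ p • 𝟙 N) ≫ g := by
              rw [restrictD_smul_id, Linear.smul_comp, Category.id_comp]
            rw [this, Adjunction.homEquiv_naturality_left, Linear.smul_comp, Category.id_comp]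
          rw [hg, ← TensorProduct.smul_tmul, map_mul, sq_apply hsq]
          rfl
    have key : ∀ t, post (beta φ' N (Rψ.obj Y) (α t)) = T (beta φ ((TD ψ).obj N) Y t) := by
      intro t
      induction t using TensorProduct.induction_on with
      | zero =>
        rw [map_zero, map_zero, map_zero, map_zero]
        have h0 := hTadd 0 0
        rw [add_zero] at h0
        exact (left_eq_add.1 h0).symm
      | tmul q g =>
        show beta φ' N (Rψ.obj Y) (mkQP φ' (χ (toQ φ q)) ⊗ₜ[A] adj.homEquiv _ _ g) ≫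
          (TD φ').map (theta hsq h adj adjχ Y) = T (beta φ ((TD ψ).obj N) Y (q ⊗ₜ[P] g))
        have e1 : E₁.symm (beta φ ((TD ψ).obj N) Y (q ⊗ₜ[P] g)) = (GD φ).map g ≫ (toQ φ q • 𝟙 _) := by
          rw [Equiv.symm_apply_eq]
          show _ = (gtAdj φ).homEquiv _ _ _
          rw [beta_tmul, Adjunction.homEquiv_unit, Functor.map_comp]
          exact (reassoc_of% ((gtAdj φ).unit.naturality g)) _
        have e2 : E₂ ((bcD hsq h).inv.app N ≫ (GD φ).map g ≫ (toQ φ q • 𝟙 _)) =
            χ (toQ φ q) • E₂ ((bcD hsq h).inv.app N ≫ (GD φ).map g) := by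
          have : (bcD hsq h).inv.app N ≫ (GD φ).map g ≫ (toQ φ q • 𝟙 _) =
              (TD χ).map (χ (toQ φ q) • 𝟙 ((GD φ').obj N)) ≫ (bcD hsq h).inv.app N ≫ (GD φ).map g := by
            rw [restrictD_smul_id, Linear.smul_comp, Linear.comp_smul, Linear.comp_smul, Category.comp_id]
            erw [Category.id_comp]
          rw [this]
          show adjχ.homEquiv _ _ _ = _ • adjχ.homEquiv _ _ _
          rw [Adjunction.homEquiv_naturality_left, Linear.smul_comp, Category.id_comp]
        show _ = E₃ (E₂ ((bcD hsq h).inv.app N ≫ E₁.symm (beta φ ((TD ψ).obj N) Y (q ⊗ₜ[P] g))))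
        rw [e1, e2, beta_tmul]
        have e3 : E₂ ((bcD hsq h).inv.app N ≫ (GD φ).map g) =
            (GD φ').map (adj.homEquiv _ _ g) ≫ theta hsq h adj adjχ Y := by
          rw [theta_comp, Equiv.symm_apply_apply]
        rw [e3]
        generalize adj.homEquiv _ _ g = f
        show _ = (gtAdj φ').homEquiv _ _ _
        have hs : χ (toQ φ q) • ((GD φ').map f ≫ theta hsq h adj adjχ Y) =
            (GD φ').map f ≫ (χ (toQ φ q) • 𝟙 _) ≫ theta hsq h adj adjχ Y := by
          rw [Linear.smul_comp, Category.id_comp, Linear.comp_smul]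
        rw [Adjunction.homEquiv_unit, hs, Functor.map_comp, Functor.map_comp, Category.assoc,
          Category.assoc]
        exact (reassoc_of% ((gtAdj φ').unit.naturality f)) _
      | add a b ha hb => rw [map_add, map_add, map_add, ha, hb, ← hTadd, map_add]
    -- the source comparison is bijective
    have hαsurj : Function.Surjective α := by
      intro t
      induction t using TensorProduct.induction_on with
      | zero => exact ⟨0, map_zero α⟩
      | tmul b f =>
        obtain ⟨w, hw⟩ := h.2 (toQ φ' b)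
        have hb' : b = mkQP φ' (muMap hsq w) := hw.symm
        subst hb'
        clear hw
        induction w using TensorProduct.induction_on with
        | zero => exact ⟨0, by rw [map_zero, map_zero]; exact (TensorProduct.zero_tmul _ _).symm⟩
        | tmul q c =>
          refine ⟨q ⊗ₜ[P] ((adj.homEquiv _ _).symm (toA c • f)), ?_⟩
          show mkQP φ' (χ (toQ φ q)) ⊗ₜ[A] adj.homEquiv _ _ ((adj.homEquiv _ _).symm (toA c • f)) = _
          rw [Equiv.apply_symm_apply, ← TensorProduct.smul_tmul]
          refine congrArg (fun y : QP φ' => y ⊗ₜ[A] f) ?_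
          show φ' (toA c) * χ (toQ φ q) = χ (toQ φ q) * φ' (toA c)
          ring
        | add u v hu hv =>
          obtain ⟨x, hx⟩ := hu
          obtain ⟨y, hy⟩ := hv
          exact ⟨x + y, by
            rw [map_add, hx, hy, map_add]
            exact (TensorProduct.add_tmul _ _ _).symm⟩
      | add u v hu hv =>
        obtain ⟨x, rfl⟩ := hu
        obtain ⟨y, rfl⟩ := hv
        exact ⟨x + y, map_add α x y⟩
    have hR : Function.Bijective (T ∘ beta φ ((TD ψ).obj N) Y) := hT.comp (hA k)
    show Function.Bijective post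
    refine ⟨fun x y hxy => ?_, fun z => ?_⟩
    · obtain ⟨x', rfl⟩ := (hW k).2 x
      obtain ⟨y', rfl⟩ := (hW k).2 y
      obtain ⟨a, rfl⟩ := hαsurj x'
      obtain ⟨b, rfl⟩ := hαsurj y'
      rw [key, key] at hxy
      rw [hR.1 hxy]
    · obtain ⟨t, ht⟩ := hR.2 z
      exact ⟨_, (key t).trans ht⟩
  exact isIso_of_isIso_TD φ' _
where
  /-- Restriction of scalars reflects isomorphisms. -/
  isIso_of_isIso_TD {R S : Type u} [CommRing R] [CommRing S] (f : R →+* S) {X X' : Dual.D S}
      (g : X ⟶ X') [IsIso ((TD f).map g)] : IsIso g := by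
    obtain ⟨C, i, j, hT⟩ := distinguished_cocone_triangle g
    have hC : IsZero ((TD f).obj C) :=
      Triangle.isZero₃_of_isIso₁ _ ((TD f).map_distinguished _ hT) (inferInstanceAs (IsIso ((TD f).map g)))
    refine (Triangle.isZero₃_iff_isIso₁ _ hT).1 ?_
    refine isZero_of_HD C fun n => ?_
    haveI : Subsingleton (Dual.HD R ((TD f).obj C) n) :=
      ModuleCat.subsingleton_of_isZero ((H4DR.PCoh.H R n).map_isZero hC)
    exact (H4DR.PCoh.hMap (reF f) n C).toLinearEquiv.symm.injective.subsingleton

end Groth.Agent.H26Dual2
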