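import Groth.Agent.H26Dual2.ShriekBC
import Mathlib.Algebra.Category.Ring.Epi
import Mathlib.AlgebraicGeometry.Morphisms.Flat

/-!
# The upper shriek of an open immersion
-/

set_option autoImplicit false
set_option linter.style.haveILetI false

universe u

open CategoryTheory CategoryTheory.Limits Pretriangulated Opposite TensorProduct AlgebraicGeometry

attribute [local instance] HasDerivedCategory.standard

namespace Groth.Agent.H26Dual2

section Generic

variable {P Q : Type u} [CommRing P] [CommRing Q] (φ : P →+* Q) [PreservesFiniteLimits (exF φ)]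

/-- For an epimorphism, `Q ⊗_P M = M`. -/
lemma isIso_erCounit (hepi : Epi (CommRingCat.ofHom φ)) (M : ModuleCat.{u} Q) :
    IsIso ((erAdj φ).counit.app M) := by
  have hQ : ∀ q : Q, (mkQP φ 1 ⊗ₜ[P] mkA φ q : (QP φ) ⊗[P] ((reF φ).obj (ModuleCat.of Q Q))) =
      mkQP φ q ⊗ₜ[P] mkA φ 1 := by
    letI := φ.toAlgebra
    haveI : Algebra.IsEpi P Q := CommRingCat.epi_iff_epi.1 hepi
    exact (Algebra.isEpi_iff_forall_one_tmul_eq P Q).1 inferInstance
  refine (ConcreteCategory.isIso_iff_bijective _).2 (Function.bijective_iff_has_inverse.2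
    ⟨fun m => mkQP φ 1 ⊗ₜ[P] mkRe φ m, fun t => ?_, fun m => ?_⟩)
  · show mkQP φ 1 ⊗ₜ[P] mkRe φ ((erAdj φ).counit.app M t) = t
    induction t using TensorProduct.induction_on with
    | zero =>
      refine (congrArg (fun y : (reF φ).obj M => mkQP φ 1 ⊗ₜ[P] y) (map_zero _)).trans ?_
      exact TensorProduct.tmul_zero _ _
    | tmul q m =>
      let L : ((reF φ).obj (ModuleCat.of Q Q)) →ₗ[P] ((reF φ).obj M) :=
        { toFun := fun a => mkRe φ (toA a • (show M from m))
          map_add' := fun a a' => add_smul (toA a) (toA a') (show M from m)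
          map_smul' := fun p a => mul_smul (φ p) (toA a) (show M from m) }
      refine (congrArg (L.lTensor (QP φ)) (hQ (toQ φ q))).trans ?_
      rw [LinearMap.lTensor_tmul]
      exact congrArg (fun y : (reF φ).obj M => q ⊗ₜ[P] y) (one_smul Q (show M from m))
    | add a b ha hb =>
      refine (congrArg (fun y : (reF φ).obj M => mkQP φ 1 ⊗ₜ[P] y) (map_add _ a b)).trans ?_
      exact (TensorProduct.tmul_add _ _ _).trans (congrArg₂ (· + ·) ha hb)
  · exact one_smul Q m

lemma isIso_gtCounit (hepi : Epi (CommRingCat.ofHom φ)) : IsIso (gtAdj φ).counit := by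
  haveI : ∀ Y, IsIso ((gtAdj φ).counit.app Y) := fun Y => by
    obtain ⟨Y₀, ⟨i⟩⟩ : ∃ Y₀ : DRing.Cx Q, Nonempty (DRing.toD Y₀ ≅ Y) :=
      ⟨_, ⟨DerivedCategory.Q.objObjPreimageIso Y⟩⟩
    refine (NatTrans.isIso_app_iff_of_iso (gtAdj φ).counit i).1 ?_
    show IsIso ((H16Derived.ExactAdj.mapDerivedCategoryAdj (erAdj φ)).counit.app (DerivedCategory.Q.obj Y₀))
    rw [H16Derived.ExactAdj.mapDerivedCategoryAdj]
    erw [Adjunction.localization_counit_app]
    haveI : ∀ n, IsIso (((adjCx' φ).counit.app Y₀).f n) := fun n =>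
      isIso_erCounit φ hepi (Y₀.X n)
    haveI : IsIso ((adjCx' φ).counit.app Y₀) :=
      HomologicalComplex.Hom.isIso_of_components _
    infer_instance
  exact NatIso.isIso_of_isIso_app _

lemma hm_smul_id (C : Dual.D P) (p : P) (i : ℤ) (x : Dual.HD P C i) :
    H4DR.PCoh.hm i (p • 𝟙 C) x = p • x := by
  obtain ⟨C₀, ⟨e⟩⟩ : ∃ C₀ : DRing.Cx P, Nonempty (DRing.toD C₀ ≅ C) :=
    ⟨_, ⟨DerivedCategory.Q.objObjPreimageIso C⟩⟩
  let F := (DerivedCategory.homologyFunctorFactors (ModuleCat.{u} P) i).app C₀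
  have h0 : (H4DR.PCoh.H P i).map (p • 𝟙 (DRing.toD C₀)) = p • 𝟙 _ := by
    have hn := (DerivedCategory.homologyFunctorFactors (ModuleCat.{u} P) i).hom.naturality (p • 𝟙 C₀)
    simp only [Functor.comp_map, Functor.map_smul DerivedCategory.Q,
      CategoryTheory.Functor.map_id DerivedCategory.Q] at hn
    have hl : (HomologicalComplex.homologyFunctor (ModuleCat.{u} P) (ComplexShape.up ℤ) i).map (p • 𝟙 C₀) =
        p • 𝟙 _ := by
      show ShortComplex.homologyMap ((HomologicalComplex.shortComplexFunctor _ _ i).map (p • 𝟙 C₀)) = _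
      rw [show (HomologicalComplex.shortComplexFunctor (ModuleCat.{u} P) (ComplexShape.up ℤ) i).map (p • 𝟙 C₀) =
        p • 𝟙 (C₀.sc i) from ShortComplex.hom_ext _ _ rfl rfl rfl, ShortComplex.homologyMap_smul,
        ShortComplex.homologyMap_id]
      rfl
    rw [hl, Linear.comp_smul] at hn
    erw [Category.comp_id] at hn
    rw [← cancel_mono F.hom, Linear.smul_comp, Category.id_comp]
    exact hn
  have he : p • 𝟙 C = e.inv ≫ (p • 𝟙 (DRing.toD C₀)) ≫ e.hom := by
    rw [Linear.smul_comp, Category.id_comp, Linear.comp_smul, e.inv_hom_id]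
  have h1 : (H4DR.PCoh.H P i).map (p • 𝟙 C) = p • 𝟙 _ := by
    rw [he, Functor.map_comp, Functor.map_comp, h0, Linear.smul_comp, Category.id_comp, Linear.comp_smul,
      ← Functor.map_comp, e.inv_hom_id, CategoryTheory.Functor.map_id]
  exact congrArg (fun g : (H4DR.PCoh.H P i).obj C ⟶ _ => g.hom x) h1

/-- `1 - e` is invertible on an object with `e`-power torsion cohomology. -/
lemma isIso_one_sub_smul {C : Dual.D P} {e : P}
    (hC : ∀ (i : ℤ) (x : Dual.HD P C i), ∃ N : ℕ, e ^ N • x = 0) : IsIso ((1 - e) • 𝟙 C) := by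
  obtain ⟨Z, g, h, hT⟩ := distinguished_cocone_triangle ((1 - e) • 𝟙 C)
  refine (Triangle.isZero₃_iff_isIso₁ _ hT).1 (isZero_of_HD Z fun j => ?_)
  refine (H4DR.PCoh.good_iff_cone j _ hT).1 ⟨fun i _ => ?_, fun i _ => ?_⟩ j le_rfl
  · show Function.Surjective (H4DR.PCoh.hm i ((1 - e) • 𝟙 C))
    intro x
    obtain ⟨N, hN⟩ := hC i x
    refine ⟨(∑ k ∈ Finset.range N, e ^ k) • x, ?_⟩
    rw [hm_smul_id, smul_smul, mul_neg_geom_sum, sub_smul, one_smul, hN, sub_zero]
  · show Function.Injective (H4DR.PCoh.hm i ((1 - e) • 𝟙 C))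
    refine (injective_iff_map_eq_zero _).2 fun x hx => ?_
    obtain ⟨N, hN⟩ := hC i x
    rw [hm_smul_id] at hx
    have h1 : ((∑ k ∈ Finset.range N, e ^ k) * (1 - e)) • x = 0 := by rw [mul_smul, hx, smul_zero]
    rwa [geom_sum_mul_neg, sub_smul, one_smul, hN, sub_zero] at h1

end Generic

/-- An element of a module killed by `Q ⊗ -` is killed by a power of `f`, when `P → P_f` factors through `Q`. -/
lemma exists_pow_smul_eq_zero {P Q : Type u} [CommRing P] [CommRing Q] (φ : P →+* Q) (f : P)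
    (κ : Q →+* Localization.Away f) (hκ : κ.comp φ = algebraMap P (Localization.Away f))
    (H : ModuleCat.{u} P) [Subsingleton ((exF φ).obj H)] (x : H) : ∃ N : ℕ, f ^ N • x = 0 := by
  let Λ : (QP φ) ⊗[P] H →+ LocalizedModule (Submonoid.powers f) H :=
    TensorProduct.liftAddHom
      (AddMonoidHom.mk' (fun q : QP φ => AddMonoidHom.mk'
          (fun m : H => κ (toQ φ q) • LocalizedModule.mkLinearMap (Submonoid.powers f) H m)
          fun m m' => by rw [map_add, smul_add])
        fun q q' => AddMonoidHom.ext fun m => by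
          show κ (toQ φ q + toQ φ q') • LocalizedModule.mkLinearMap (Submonoid.powers f) H m = _
          rw [map_add, add_smul]; rfl)
      fun p q m => by
        show κ (φ p * toQ φ q) • LocalizedModule.mkLinearMap (Submonoid.powers f) H m =
          κ (toQ φ q) • LocalizedModule.mkLinearMap (Submonoid.powers f) H (p • m)
        rw [map_mul, show κ (φ p) = algebraMap P (Localization.Away f) p from DFunLike.congr_fun hκ p,
          LinearMap.map_smul, mul_comm, mul_smul, algebraMap_smul]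
  have h0 : Λ (mkQP φ 1 ⊗ₜ[P] x) = 0 := by
    rw [show (mkQP φ 1 ⊗ₜ[P] x : (exF φ).obj H) = 0 from @Subsingleton.elim ((exF φ).obj H) _ _ _]
    exact map_zero Λ
  have h1 : LocalizedModule.mkLinearMap (Submonoid.powers f) H x = 0 := by
    change κ 1 • LocalizedModule.mkLinearMap (Submonoid.powers f) H x = 0 at h0
    rwa [map_one, one_smul] at h0
  obtain ⟨⟨_, N, rfl⟩, hN⟩ := (IsLocalizedModule.eq_zero_iff (Submonoid.powers f) _).1 h1
  exact ⟨N, hN⟩

variable (R R' : Type u) [CommRing R] [CommRing R'] [Algebra R R']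

/-- An open subscheme is covered by principal opens. -/
lemma exists_factors (hopen : IsOpenImmersion (Spec.map (CommRingCat.ofHom (algebraMap R R')))) :
    Ideal.span (algebraMap R R' ''
      {f : R | ∃ σ : R' →+* Localization.Away f, σ.comp (algebraMap R R') = algebraMap R _}) = ⊤ := by
  haveI := hopen
  let ι := Spec.map (CommRingCat.ofHom (algebraMap R R'))
  rw [Ideal.eq_top_iff_one]
  by_contra h
  obtain ⟨M, hM, hle⟩ := Ideal.exists_le_maximal _ (fun h' => h ((Ideal.eq_top_iff_one _).1 h'))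
  let x : Spec (CommRingCat.of R') := (⟨M, hM.isPrime⟩ : PrimeSpectrum R')
  obtain ⟨_, ⟨f, rfl⟩, hfx, hfU⟩ := PrimeSpectrum.isTopologicalBasis_basic_opens.exists_subset_of_mem_open
    (show ι.base x ∈ Set.range ι.base from ⟨x, rfl⟩) ι.isOpenEmbedding.isOpen_range
  have hr : Set.range (Spec.map (CommRingCat.ofHom (algebraMap R (Localization.Away f)))).base ⊆
      Set.range ι.base := (PrimeSpectrum.localization_away_comap_range (Localization.Away f) f).subset.trans hfU
  let l := IsOpenImmersion.lift ι _ hr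
  have hσ : Spec.map (CommRingCat.ofHom (algebraMap R R') ≫ Spec.preimage l) =
      Spec.map (CommRingCat.ofHom (algebraMap R (Localization.Away f))) := by
    rw [Spec.map_comp, Spec.map_preimage]
    exact IsOpenImmersion.lift_fac _ _ hr
  exact hfx (hle (Ideal.subset_span ⟨f, ⟨(Spec.preimage l).hom,
    congrArg CommRingCat.Hom.hom (Spec.map_injective hσ)⟩, rfl⟩))

lemma flat_of_isOpenImmersion (hopen : IsOpenImmersion (Spec.map (CommRingCat.ofHom (algebraMap R R')))) :
    Module.Flat R R' :=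
  haveI := hopen
  RingHom.flat_algebraMap_iff.1 ((Flat.SpecMap_iff (f := CommRingCat.ofHom (algebraMap R R'))).1 inferInstance)

lemma epi_of_isOpenImmersion (hopen : IsOpenImmersion (Spec.map (CommRingCat.ofHom (algebraMap R R')))) :
    Epi (CommRingCat.ofHom (algebraMap R R')) := by
  haveI := hopen
  refine ⟨fun g h hgh => Spec.map_injective ((cancel_mono (Spec.map (CommRingCat.ofHom (algebraMap R R')))).1 ?_)⟩
  rw [← Spec.map_comp, ← Spec.map_comp, hgh]

lemma epi_polyMap (n : ℕ) (hepi : Epi (CommRingCat.ofHom (algebraMap R R'))) :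
    Epi (CommRingCat.ofHom (polyMap R R' n)) := by
  refine ⟨fun {T} g h hgh => CommRingCat.hom_ext (MvPolynomial.ringHom_ext (fun r' => ?_) fun i => ?_)⟩
  · have e : ∀ r : R, g.hom (MvPolynomial.C (algebraMap R R' r)) = h.hom (MvPolynomial.C (algebraMap R R' r)) :=
      fun r => by
        have := congrArg (fun k : CommRingCat.of _ ⟶ T => k.hom (MvPolynomial.C r)) hgh
        simpa using this
    have := (cancel_epi (CommRingCat.ofHom (algebraMap R R'))).1
      (show CommRingCat.ofHom (algebraMap R R') ≫ CommRingCat.ofHom (g.hom.comp MvPolynomial.C) =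
        CommRingCat.ofHom (algebraMap R R') ≫ CommRingCat.ofHom (h.hom.comp MvPolynomial.C) from
          CommRingCat.hom_ext (RingHom.ext e))
    exact congrArg (fun k : CommRingCat.of R' ⟶ T => k.hom r') this
  · have := congrArg (fun k : CommRingCat.of _ ⟶ T => k.hom (MvPolynomial.X i)) hgh
    simpa using this

/-- Restriction along the identity. -/
noncomputable def tdId : TD (RingHom.id R) ≅ 𝟭 (Dual.D R) :=
  let W := HomologicalComplex.quasiIso (ModuleCat.{u} R) (ComplexShape.up ℤ)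
  let F₁ := reCx (RingHom.id R) ⋙ DerivedCategory.Q
  letI : Localization.Lifting DerivedCategory.Q W F₁ (TD (RingHom.id R)) :=
    ⟨(reF (RingHom.id R)).mapDerivedCategoryFactors⟩
  letI : Localization.Lifting DerivedCategory.Q W DerivedCategory.Q (𝟭 (Dual.D R)) := ⟨Functor.rightUnitor _⟩
  Localization.liftNatIso DerivedCategory.Q W F₁ DerivedCategory.Q _ _
    (Functor.isoWhiskerRight
      (NatIso.mapHomologicalComplex (ModuleCat.restrictScalarsId' (RingHom.id R) rfl) (ComplexShape.up ℤ) ≪≫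
        NatIso.ofComponents (G := 𝟭 _) (fun _ => Iso.refl _)
          (fun _ => (Category.comp_id _).trans (Category.id_comp _).symm))
      DerivedCategory.Q ≪≫ Functor.leftUnitor _)

/-- The open immersion case. -/
theorem shriekVia_openImmersion
    (hopen : IsOpenImmersion (Spec.map (CommRingCat.ofHom (algebraMap R R')))) (n : ℕ)
    (ψ : MvPolynomial (Fin n) R →ₐ[R] R') (hψ : Function.Surjective ψ)
    [DRing.HasLBaseChange (algebraMap R (MvPolynomial (Fin n) R))]
    (Rψ : Dual.D (MvPolynomial (Fin n) R) ⥤ Dual.D R') (adj : TD ψ.toRingHom ⊣ Rψ)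
    [DRing.HasLBaseChange (algebraMap R R')] (K : Dual.D R) :
    Nonempty (Dual2.shriekVia n Rψ K ≅ (DRing.LBaseChange (algebraMap R R')).obj K) := by
  haveI := flat_of_isOpenImmersion R R' hopen
  have hepi := epi_polyMap R R' n (epi_of_isOpenImmersion R R' hopen)
  let ι := polyMap R R' n
  let ψ₂ : MvPolynomial (Fin n) R' →+* R' :=
    MvPolynomial.eval₂Hom (RingHom.id R') (fun i => ψ (MvPolynomial.X i))
  have hψ₂ : ψ₂.comp ι = ψ.toRingHom := MvPolynomial.ringHom_ext
    (fun r => by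
      simp only [ψ₂, ι, RingHom.comp_apply, MvPolynomial.map_C, MvPolynomial.eval₂Hom_C, RingHom.id_apply]
      exact ((congrArg ψ (DFunLike.congr_fun (MvPolynomial.algebraMap_eq R (Fin n)).symm r)).trans
        (ψ.commutes r)).symm)
    (fun i => by simp [ψ₂, ι])
  haveI := ModuleCat.preservesFiniteLimits_extendScalars_of_flat (polyMap_flat R R' n)
  haveI := ModuleCat.preservesFiniteLimits_extendScalars_of_flat (flat_mvPolynomial_C R' n)
  haveI := isIso_gtCounit ι hepi
  -- the element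
  obtain ⟨t, ht, l, hl1⟩ := (Submodule.mem_span_image_iff_exists_fun R').1
    ((Ideal.eq_top_iff_one _).1 (exists_factors R R' hopen))
  choose p hp using fun i => hψ (l i)
  let e : MvPolynomial (Fin n) R := ∑ i, p i * MvPolynomial.C (i : R)
  have he : ψ e = 1 := by
    rw [map_sum, ← hl1]
    refine Finset.sum_congr rfl fun j _ => ?_
    rw [map_mul, hp, smul_eq_mul]
    exact congrArg (l j * ·) ((congrArg ψ (DFunLike.congr_fun
      (MvPolynomial.algebraMap_eq R (Fin n)).symm _)).trans (ψ.commutes _))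
  obtain ⟨adjL⟩ := Groth.Agent.S12898.result (algebraMap R (MvPolynomial (Fin n) R))
  obtain ⟨adjR⟩ := Groth.Agent.S12898.result (algebraMap R R')
  let Y : Dual.D (MvPolynomial (Fin n) R) :=
    ((DRing.LBaseChange (algebraMap R (MvPolynomial (Fin n) R))).obj K)⟦(n : ℤ)⟧
  obtain ⟨W, g, h, hT⟩ := distinguished_cocone_triangle ((gtAdj ι).unit.app Y)
  have hW : ∀ i, Subsingleton ((exF ι).obj ((H4DR.PCoh.H _ i).obj W)) := fun i => by
    haveI : IsIso ((GD ι).map ((gtAdj ι).unit.app Y)) := by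
      haveI : IsIso ((gtAdj ι).counit.app ((GD ι).obj Y)) := inferInstance
      have ht : (GD ι).map ((gtAdj ι).unit.app Y) ≫ (gtAdj ι).counit.app ((GD ι).obj Y) = 𝟙 _ :=
        (gtAdj ι).left_triangle_components Y
      refine ⟨_, ht, ?_⟩
      rw [← cancel_mono ((gtAdj ι).counit.app ((GD ι).obj Y)), Category.assoc, ht, Category.comp_id]
      exact (Category.id_comp _).symm
    have hz : IsZero ((GD ι).obj W) := Triangle.isZero₃_of_isIso₁ _ ((GD ι).map_distinguished _ hT)
      (inferInstanceAs (IsIso ((GD ι).map ((gtAdj ι).unit.app Y))))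
    haveI : Subsingleton (Dual.HD _ ((GD ι).obj W) i) :=
      ModuleCat.subsingleton_of_isZero ((H4DR.PCoh.H _ i).map_isZero hz)
    exact (H4DR.PCoh.hMap (exF ι) i W).toLinearEquiv.symm.injective.subsingleton
  have htor : ∀ (i : ℤ) (x : Dual.HD _ W i), ∃ N : ℕ, e ^ N • x = 0 := fun i x => by
    have hmem : e ∈ Ideal.radical (LinearMap.ker (LinearMap.toSpanSingleton (MvPolynomial (Fin n) R) _ x)) :=
      Submodule.sum_mem _ fun j _ => Ideal.mul_mem_left _ _ (by
        obtain ⟨σ, hσ⟩ := ht j.2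
        haveI := hW i
        let fC : MvPolynomial (Fin n) R := MvPolynomial.C (j : R)
        let μ : Localization.Away (j : R) →+* Localization.Away fC :=
          IsLocalization.Away.lift (j : R) (g := (algebraMap _ (Localization.Away fC)).comp MvPolynomial.C)
            (IsLocalization.Away.algebraMap_isUnit fC)
        let κ : MvPolynomial (Fin n) R' →+* Localization.Away fC :=
          MvPolynomial.eval₂Hom (μ.comp σ) fun k => algebraMap _ _ (MvPolynomial.X k : MvPolynomial (Fin n) R)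
        have hκ : κ.comp ι = algebraMap _ _ := MvPolynomial.ringHom_ext
          (fun r => by
            simp only [κ, ι, RingHom.comp_apply, MvPolynomial.map_C, MvPolynomial.eval₂Hom_C]
            rw [show σ (algebraMap R R' r) = algebraMap R _ r from DFunLike.congr_fun hσ r]
            exact IsLocalization.Away.lift_eq _ _ r)
          (fun k => by simp [κ, ι])
        exact Ideal.mem_radical_iff.2 (exists_pow_smul_eq_zero ι fC κ hκ _ x))
    exact Ideal.mem_radical_iff.1 hmem
  haveI := isIso_one_sub_smul htor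
  -- no morphisms into the cone
  let T := fun N : Dual.D R' => (TD ι).obj ((TD ψ₂).obj N)
  have hid : ∀ N, (1 - e) • 𝟙 (T N) = 0 := fun N => by
    have h1 : ψ₂ (ι (1 - e)) = 0 := by
      rw [← RingHom.comp_apply, hψ₂]
      show ψ (1 - e) = 0
      rw [map_sub, map_one, he, sub_self]
    show (1 - e) • 𝟙 ((TD ι).obj ((TD ψ₂).obj N)) = 0
    rw [← restrictD_smul_id ι, ← restrictD_smul_id ψ₂, h1, zero_smul, Functor.map_zero, Functor.map_zero]
  have hvan : ∀ N (v : T N ⟶ W), v = 0 := fun N v => by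
    have : v ≫ ((1 - e) • 𝟙 W) = 0 := by
      rw [Linear.comp_smul, Category.comp_id, ← Category.id_comp v, ← Linear.smul_comp, hid, zero_comp]
    exact (cancel_mono ((1 - e) • 𝟙 W)).1 (this.trans zero_comp.symm)
  have hvan' : ∀ N (v : T N ⟶ W⟦(-1 : ℤ)⟧), v = 0 := fun N v => by
    have : v ≫ ((1 - e) • 𝟙 W)⟦(-1 : ℤ)⟧' = 0 := by
      rw [Functor.map_smul, CategoryTheory.Functor.map_id, Linear.comp_smul, Category.comp_id,
        ← Category.id_comp v, ← Linear.smul_comp, hid, zero_comp]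
    exact (cancel_mono (((1 - e) • 𝟙 W)⟦(-1 : ℤ)⟧')).1 (this.trans zero_comp.symm)
  have hbij : ∀ N, Function.Bijective
      (fun u : T N ⟶ Y => u ≫ (gtAdj ι).unit.app Y) := fun N => by
    refine ⟨fun u v huv => sub_eq_zero.1 ?_, fun v => ?_⟩
    · obtain ⟨w, hw⟩ := Triangle.coyoneda_exact₂ _ (inv_rot_of_distTriang _ hT) (u - v)
        (show (u - v) ≫ (gtAdj ι).unit.app Y = 0 by rw [Preadditive.sub_comp, sub_eq_zero]; exact huv)
      rw [hw, hvan' N w]
      exact zero_comp
    · obtain ⟨u, hu⟩ := Triangle.coyoneda_exact₂ _ hT v (hvan N _)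
      exact ⟨u, hu.symm⟩
  let F := (gtAdj ι).fullyFaithfulROfIsIsoCounit
  let a : (TD ψ₂ ⋙ TD ι).op ⋙ yoneda.obj Y ≅ (TD ψ₂).op ⋙ yoneda.obj ((GD ι).obj Y) :=
    NatIso.ofComponents (fun N => ((Equiv.ofBijective _ (hbij N.unop)).trans F.homEquiv.symm).toIso)
      fun {N N'} f => by
        ext u
        exact F.map_injective (by simp [F.map_preimage, T])
  let adj₁ : DRing.LBaseChange (algebraMap R (MvPolynomial (Fin n) R)) ⋙ GD ι ⊣
      TD (ι.comp (algebraMap R (MvPolynomial (Fin n) R))) :=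
    (adjL.comp (gtAdj ι)).ofNatIsoRight (tdComp _ ι).symm
  have hcomm : ι.comp (algebraMap R (MvPolynomial (Fin n) R)) =
      (MvPolynomial.C : R' →+* MvPolynomial (Fin n) R').comp (algebraMap R R') :=
    RingHom.ext fun r => by simp [ι, MvPolynomial.algebraMap_eq]
  let adj₂ : DRing.LBaseChange (algebraMap R R') ⋙ GD MvPolynomial.C ⊣
      TD (ι.comp (algebraMap R (MvPolynomial (Fin n) R))) :=
    (adjR.comp (gtAdj _)).ofNatIsoRight ((tdComp _ _).symm ≪≫ eqToIso (congrArg TD hcomm.symm))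
  have hψ₂C : ψ₂.comp MvPolynomial.C = RingHom.id R' := RingHom.ext fun r => MvPolynomial.eval₂Hom_C _ _ r
  have hint : (ψ₂.comp MvPolynomial.C).IsIntegral :=
    isIntegral_of_surjective _ (hψ₂C ▸ Function.surjective_id)
  obtain ⟨b⟩ := shriekDual_mvPolynomial n ψ₂ hint (GD MvPolynomial.C) (gtAdj _)
    ((DRing.LBaseChange (algebraMap R R')).obj K)
  let s : (GD ι).obj Y ≅
      ((GD MvPolynomial.C).obj ((DRing.LBaseChange (algebraMap R R')).obj K))⟦(n : ℤ)⟧ :=
    ((GD ι).commShiftIso (n : ℤ)).app _ ≪≫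
      (shiftFunctor _ (n : ℤ)).mapIso ((adj₁.leftAdjointUniq adj₂).app K)
  let c : TD ψ.toRingHom ≅ TD ψ₂ ⋙ TD ι := eqToIso (congrArg TD hψ₂.symm) ≪≫ tdComp ι ψ₂
  let d : TD ψ₂ ⋙ TD MvPolynomial.C ≅ 𝟭 (Dual.D R') :=
    (tdComp MvPolynomial.C ψ₂).symm ≪≫ eqToIso (congrArg TD hψ₂C) ≪≫ tdId R'
  exact ⟨Yoneda.fullyFaithful.preimageIso (yonedaShiftIso adj _ (n : ℤ) ≪≫
    Functor.isoWhiskerRight (NatIso.op c.symm) (yoneda.obj Y) ≪≫ a ≪≫
    Functor.isoWhiskerLeft _ (yoneda.mapIso s) ≪≫ b.symm ≪≫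
    Functor.isoWhiskerRight (NatIso.op d.symm) (yoneda.obj _) ≪≫
    NatIso.ofComponents (fun _ => Iso.refl _))⟩

end Groth.Agent.H26Dual2
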