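import Groth.Agent.H26Dual2.RelPerfect
import Groth.Agent.H4DR.TorAmp.NilpotentPC
import Groth.Agent.H4DR.TorAmp.LTensorCx
import Groth.Agent.H4DR.TorAmp.Exists
import Mathlib.RingTheory.IsTensorProduct

/-!
# Stability of relative perfectness: triangles, summands, tensor products, base change
-/

set_option autoImplicit false
set_option linter.style.haveILetI false

universe u

open CategoryTheory CategoryTheory.Limits MonoidalCategory Pretriangulated TensorProduct
open Groth.Agent.H4DR
open scoped ZeroObject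

attribute [local instance] HasDerivedCategory.standard

namespace Groth.Agent.H26Dual2

open Groth.Agent.H4DR.KFlatMod (bi)

variable {R A : Type u} [CommRing R] [CommRing A] [Algebra R A]

lemma IsRelPerfect.of_iso {K L : Dual.D A} (e : K ≅ L) (h : Dual2.IsRelPerfect R A K) :
    Dual2.IsRelPerfect R A L := by
  obtain ⟨hp, a, b, hT⟩ := h
  exact ⟨PCoh.pc'_of_forall fun m => PCoh.pc_of_iso e (PCoh.pc_of_pc' hp m), a, b,
    TorAmp.ta_of_iso ((DRing.restrictD (algebraMap R A)).mapIso e) hT⟩

lemma IsRelPerfect.shift {K : Dual.D A} (h : Dual2.IsRelPerfect R A K) (n : ℤ) :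
    Dual2.IsRelPerfect R A (K⟦n⟧) := by
  obtain ⟨hp, a, b, hT⟩ := h
  exact ⟨PCoh.pc'_of_forall fun m => PCoh.pc_shift n rfl (PCoh.pc_of_pc' hp (n + m)), a - n, b - n,
    TorAmp.ta_of_iso (((res R A).mapDerivedCategory.commShiftIso n).app K).symm
      (TorAmp.ta_shift n (by omega) (by omega) hT)⟩

lemma IsRelPerfect.obj₂ (T : Triangle (Dual.D A)) (hT : T ∈ distTriang _)
    (h₁ : Dual2.IsRelPerfect R A T.obj₁) (h₃ : Dual2.IsRelPerfect R A T.obj₃) :
    Dual2.IsRelPerfect R A T.obj₂ := by
  obtain ⟨hp, a, b, ht⟩ := h₁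
  obtain ⟨hp', a', b', ht'⟩ := h₃
  refine ⟨PCoh.pc'_of_forall fun m =>
    PCoh.pc_obj₂ T hT (PCoh.pc_of_pc' hp m) (PCoh.pc_of_pc' hp' m), min a a', max b b', ?_⟩
  exact TorAmp.ta_obj₂ ((res R A).mapDerivedCategory.mapTriangle.obj T)
    ((res R A).mapDerivedCategory.map_distinguished _ hT)
    (TorAmp.ta_mono (min_le_left _ _) (le_max_left _ _) ht)
    (TorAmp.ta_mono (min_le_right _ _) (le_max_right _ _) ht')

lemma IsRelPerfect.of_retract {K L : Dual.D A} (i : K ⟶ L) (r : L ⟶ K) (hir : i ≫ r = 𝟙 K)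
    (h : Dual2.IsRelPerfect R A L) : Dual2.IsRelPerfect R A K := by
  obtain ⟨hp, a, b, hT⟩ := h
  refine ⟨PCoh.pc'_of_forall fun m => ?_, a, b,
    TorAmp.ta_of_retract ((res R A).mapDerivedCategory.map i) ((res R A).mapDerivedCategory.map r)
      (by rw [← Functor.map_comp, hir, CategoryTheory.Functor.map_id]) hT⟩
  obtain ⟨c, hc, hv⟩ := PCoh.exists_bound (PCoh.pc_of_pc' hp m)
  refine PCoh.pc_of_retract (c + 1 - m).toNat i r (by rw [hir]; infer_instance) (fun j hj => ?_)
    (PCoh.pc_of_pc' hp m)
  haveI := hv j (by omega)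
  have h1 : Function.LeftInverse (PCoh.hm j r) (PCoh.hm j i) := fun x => by
    rw [← PCoh.hm_comp_apply, hir, PCoh.hm_id]; rfl
  exact h1.injective.subsingleton

lemma isRelPerfect_zero [Module.Flat R A] {K : Dual.D A} (hK : IsZero K) :
    Dual2.IsRelPerfect R A K := by
  refine isRelPerfect_of_isPerfect ⟨0, 0, 0, fun i _ => ?_, fun i => ?_, ⟨?_⟩⟩
  · exact Functor.map_isZero (HomologicalComplex.eval _ _ i) (isZero_zero _)
  · haveI := ModuleCat.subsingleton_of_isZero
      (Functor.map_isZero (HomologicalComplex.eval (ModuleCat.{u} A) (ComplexShape.up ℤ) i) (isZero_zero _))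
    show Module.Finite A ((HomologicalComplex.eval (ModuleCat.{u} A) (ComplexShape.up ℤ) i).obj 0) ∧
      Module.Projective A ((HomologicalComplex.eval (ModuleCat.{u} A) (ComplexShape.up ℤ) i).obj 0)
    exact ⟨inferInstance, inferInstance⟩
  · exact (Functor.map_isZero DerivedCategory.Q (isZero_zero _)).iso hK

/-! ### Tensor products -/

lemma flat_tensor_right (P M : Type u) [AddCommGroup P] [Module A P] [AddCommGroup M] [Module A M]
    [Module R M] [IsScalarTower R A M] [Module R P] [IsScalarTower R A P]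
    [Module.Flat A P] [Module.Flat R M] : Module.Flat R (P ⊗[A] M) := by
  refine Module.Flat.iff_lTensor_preserves_injective_linearMap.2 fun N N' _ _ _ _ f hf => ?_
  let e (X : Type u) [AddCommGroup X] [Module R X] :=
    TensorProduct.AlgebraTensorModule.assoc R A A P M X
  let g : M ⊗[R] N →ₗ[A] M ⊗[R] N' := TensorProduct.AlgebraTensorModule.map LinearMap.id f
  have hg : Function.Injective g := Module.Flat.lTensor_preserves_injective_linearMap f hf
  have key : ∀ x, e N' (f.lTensor (P ⊗[A] M) x) = g.lTensor P (e N x) := by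
    intro x
    induction x with
    | zero => simp
    | add a b ha hb => simp only [map_add, ha, hb]
    | tmul z n =>
      induction z with
      | zero => simp
      | add a b ha hb => simp only [add_tmul, map_add, ha, hb]
      | tmul p m => simp [e, g]
  intro x y hxy
  refine (e N).injective (Module.Flat.lTensor_preserves_injective_linearMap g hg ?_)
  rw [← key, ← key, hxy]

lemma flat_res_tensor (P M : ModuleCat.{u} A) [Module.Flat A M]
    (hP : Module.Flat R ((res R A).obj P)) : Module.Flat R ((res R A).obj (P ⊗ M)) := by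
  letI : Module R P := Module.compHom P (algebraMap R A)
  haveI : IsScalarTower R A P := .of_algebraMap_smul fun _ _ => rfl
  haveI : Module.Flat R P := hP
  letI : Module R M := Module.compHom M (algebraMap R A)
  haveI : IsScalarTower R A M := .of_algebraMap_smul fun _ _ => rfl
  haveI := flat_tensor_right (R := R) (A := A) M P
  let e₀ : (M ⊗[A] P) ≃ₗ[A] P ⊗[A] M := TensorProduct.comm A M P
  let X := (res R A).obj (P ⊗ M)
  let e : (M ⊗[A] P) ≃ₗ[R] X :=
    { toFun := fun z => e₀ z
      invFun := fun z => e₀.symm z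
      map_add' := fun a b => map_add e₀ a b
      map_smul' := fun r z => by
        show e₀ (r • z) = algebraMap R A r • e₀ z
        rw [← algebraMap_smul A r z, map_smul]
      left_inv := fun z => e₀.symm_apply_apply z
      right_inv := fun z => e₀.apply_symm_apply z }
  exact Module.Flat.of_linearEquiv e.symm

lemma flat_res_tensor_term {P Q : DRing.Cx A}
    (hP : ∀ i, Module.Flat R ((res R A).obj (P.X i))) (hQ : DRing.TermwiseFlat Q) (n : ℤ) :
    Module.Flat R ((res R A).obj ((P ⊗ Q).X n)) := by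
  classical
  let ι : Type := ((fun p : ℤ × ℤ => p.1 + p.2) ⁻¹' {n} : Set (ℤ × ℤ))
  let M : ι → ModuleCat.{u} A := fun x => P.X x.1.1 ⊗ Q.X x.1.2
  let e : (P ⊗ Q).X n ≅ ModuleCat.of A (DirectSum ι fun x => M x) := ModuleCat.coprodIsoDirectSum M
  letI : ∀ x, Module R (M x) := fun x => Module.compHom (M x) (algebraMap R A)
  haveI : ∀ x, IsScalarTower R A (M x) := fun x => .of_algebraMap_smul fun _ _ => rfl
  haveI : ∀ x, Module.Flat R (M x) := fun x =>
    haveI := hQ x.1.2
    flat_res_tensor (P.X x.1.1) (Q.X x.1.2) (hP _)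
  let D := (res R A).obj (ModuleCat.of A (DirectSum ι fun x => M x))
  let e' : (DirectSum ι fun x => M x) ≃ₗ[R] D :=
    { toFun := fun z => z
      invFun := fun z => z
      map_add' := fun _ _ => rfl
      map_smul' := fun r z => by
        show r • z = algebraMap R A r • z
        refine DFinsupp.ext fun i => ?_
        show (r • z) i = (algebraMap R A r • z) i
        rw [DirectSum.smul_apply, DirectSum.smul_apply, algebraMap_smul]
      left_inv := fun _ => rfl
      right_inv := fun _ => rfl }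
  exact Module.Flat.of_linearEquiv (((res R A).mapIso e).toLinearEquiv.trans e'.symm)

theorem isRelPerfect_ltensorCx [Module.Flat R A] (E : DRing.Cx A) {a b : ℤ}
    (hEb : DRing.VanishesOutside E a b) (hEp : DRing.TermwiseFiniteProjective E)
    [DRing.HasLTensorCx A E] {M : Dual.D A} (hM : Dual2.IsRelPerfect R A M) :
    Dual2.IsRelPerfect R A ((DRing.LTensorCx A E).obj M) := by
  obtain ⟨F, c, d, hF, hterms, ⟨eF⟩⟩ := exists_cx hM
  obtain ⟨G, c', hG, hGf, ⟨eG⟩⟩ := hM.1
  have hEflat : DRing.TermwiseFlat E := fun i => haveI := (hEp i).2; inferInstance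
  have hEk : H16Derived.KFlat.IsKFlat (bi A) E :=
    TorAmp.isKFlat_of_flat (fun i hi => hEb i (Or.inr hi)) hEflat
  have hGflat : DRing.TermwiseFlat G := fun i => haveI := (hGf i).2; inferInstance
  obtain ⟨f, hf, -⟩ := TorAmp.exists_qis (P := G) (c := c')
    ⟨hG, fun i => haveI := (hGf i).2; inferInstance⟩ (eG ≪≫ eF.symm)
  haveI := hf
  haveI := KFlatMod.quasiIso_whiskerRight hEk f
  let i₀ : DRing.toD (G ⊗ E) ≅ (DRing.LTensorCx A E).obj M :=
    (TorAmp.ltensorCxObj E G (TorAmp.isKFlat_of_flat hG hGflat)).symm ≪≫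
      (DRing.LTensorCx A E).mapIso eG
  let i₁ : DRing.toD (F ⊗ E) ≅ (DRing.LTensorCx A E).obj M :=
    (asIso (DerivedCategory.Q.map (f ▷ E))).symm ≪≫ i₀
  refine ⟨?_, c + a, d + b, (resCx R A).obj (F ⊗ E), fun n hn => (res R A).map_isZero
      (TorAmp.vanishes_tensor n fun p q hpq => ?_), fun n => ?_,
    ⟨(restrictToD R A (F ⊗ E)).symm ≪≫ (DRing.restrictD (algebraMap R A)).mapIso i₁⟩⟩
  · have hEpc : DRing.IsPseudoCoherent' A (DRing.toD E) :=
      (TorAmp.isPerfect_iff.1 ⟨E, a, b, hEb, hEp, ⟨Iso.refl _⟩⟩).1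
    obtain ⟨Q, cQ, hQ, hQf, ⟨eQ⟩⟩ := hEpc
    obtain ⟨i⟩ := TorAmp.ltensorCx_congr E hG hGflat eG
      (⟨hQ, fun j => haveI := (hQf j).2; inferInstance⟩ : TorAmp.IsProjRep Q cQ) eQ
    refine ⟨_, c' + cQ, fun n hn => TorAmp.vanishes_tensor n fun p q hpq => ?_, fun n => ?_, ⟨i⟩⟩
    · by_cases hp : c' < p
      · exact Or.inl (hG p hp)
      · exact Or.inr (hQ q (by omega))
    · obtain ⟨h1, h2, -⟩ :=
        TorAmp.tensor_terms hG hQ n (fun j => (hGf j).1) fun j => (hQf j).1
      exact ⟨h1, h2 (fun j => (hGf j).2) fun j => (hQf j).2⟩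
  · by_cases hp : p < c ∨ d < p
    · exact Or.inl (hF p hp)
    · exact Or.inr (hEb q (by omega))
  · exact flat_res_tensor_term (fun i => (hterms i).2) hEflat n

/-! ### Base change -/

section BaseChange

variable (R A) (R' : Type u) [CommRing R'] [Algebra R R']

/-- The map `A → R' ⊗_R A`. -/
abbrev inr' : A →+* R' ⊗[R] A := Algebra.TensorProduct.includeRight.toRingHom

lemma exists_extEquiv {S : Type u} [CommRing S] (φ : R →+* S) [inst : Algebra R S]
    (h : φ.toAlgebra = inst) (X : ModuleCat.{u} R) :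
    ∃ e : (S ⊗[R] X) ≃ₗ[S] (ModuleCat.extendScalars.{u, u, u} φ).obj X,
      ∀ (s : S) (x : X), e (s ⊗ₜ[R] x) =
        (letI := φ.toAlgebra; (s ⊗ₜ[R] x : (ModuleCat.extendScalars.{u, u, u} φ).obj X)) := by
  subst h
  exact ⟨LinearEquiv.refl _ _, fun _ _ => rfl⟩

lemma extAlgEq : (algebraMap R R').toAlgebra = ‹Algebra R R'› := Algebra.algebra_ext _ _ fun _ => rfl

/-- The given tensor product and the one in `extendScalars`. -/
noncomputable def extEquiv (X : ModuleCat.{u} R) :
    (R' ⊗[R] X) ≃ₗ[R'] (ModuleCat.extendScalars.{u, u, u} (algebraMap R R')).obj X :=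
  (exists_extEquiv R (algebraMap R R') (extAlgEq R R') X).choose

lemma extEquiv_tmul (X : ModuleCat.{u} R) (s : R') (x : X) :
    extEquiv R R' X (s ⊗ₜ[R] x) = (letI := (algebraMap R R').toAlgebra;
      (s ⊗ₜ[R] x : (ModuleCat.extendScalars.{u, u, u} (algebraMap R R')).obj X)) :=
  (exists_extEquiv R (algebraMap R R') (extAlgEq R R') X).choose_spec s x

/-- Base change along `A → R' ⊗_R A`, seen over `R'`, is base change along `R → R'`. -/
noncomputable def extResComm :
    ModuleCat.extendScalars.{u, u, u} (inr' R A R') ⋙ res R' (R' ⊗[R] A) ≅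
      res R A ⋙ ModuleCat.extendScalars.{u, u, u} (algebraMap R R') :=
  letI : Algebra A (R' ⊗[R] A) := (inr' R A R').toAlgebra
  haveI : IsScalarTower R A (R' ⊗[R] A) := IsScalarTower.of_algebraMap_eq fun r =>
    ((Algebra.TensorProduct.includeRight : A →ₐ[R] R' ⊗[R] A).commutes r).symm
  haveI : Algebra.IsPushout R R' A (R' ⊗[R] A) := TensorProduct.isPushout
  NatIso.ofComponents (fun X =>
    letI : Module R X := Module.compHom X (algebraMap R A)
    haveI : IsScalarTower R A X := .of_algebraMap_smul fun _ _ => rfl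
    let e₁ := (Algebra.IsPushout.cancelBaseChange R R' A (R' ⊗[R] A) X).trans
      (extEquiv R R' ((res R A).obj X))
    let X₁ : ModuleCat.{u} R' :=
      (res R' (R' ⊗[R] A)).obj ((ModuleCat.extendScalars.{u, u, u} (inr' R A R')).obj X)
    let X₂ : ModuleCat.{u} R' :=
      (ModuleCat.extendScalars.{u, u, u} (algebraMap R R')).obj ((res R A).obj X)
    let e : X₁ ≃ₗ[R'] X₂ :=
      { toFun := fun z => e₁ z
        invFun := fun z => e₁.symm z
        map_add' := fun z w => map_add e₁ z w
        map_smul' := fun r z => by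
          have h : algebraMap R' (R' ⊗[R] A) r • (show (R' ⊗[R] A) ⊗[A] X from z) = r • (show (R' ⊗[R] A) ⊗[A] X from z) :=
            algebraMap_smul _ r _
          exact (congrArg e₁ h).trans (e₁.map_smul r z)
        left_inv := fun z => e₁.symm_apply_apply z
        right_inv := fun z => e₁.apply_symm_apply z }
    e.toModuleIso)
    (fun {X Y} g => by
      letI : Module R X := Module.compHom X (algebraMap R A)
      haveI : IsScalarTower R A X := .of_algebraMap_smul fun _ _ => rfl
      letI : Module R Y := Module.compHom Y (algebraMap R A)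
      haveI : IsScalarTower R A Y := .of_algebraMap_smul fun _ _ => rfl
      refine ModuleCat.hom_ext (LinearMap.ext fun z => ?_)
      obtain ⟨w, rfl⟩ := (Algebra.IsPushout.cancelBaseChange R R' A (R' ⊗[R] A) X).symm.surjective z
      induction w using TensorProduct.induction_on with
      | zero => exact (congrArg _ (map_zero _)).trans ((map_zero _).trans ((congrArg _ (map_zero _)).trans (map_zero _)).symm)
      | add p q hp hq =>
        rw [map_add]
        exact (map_add _ _ _).trans ((congrArg₂ (· + ·) hp hq).trans (map_add _ _ _).symm)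
      | tmul s x =>
        rw [Algebra.IsPushout.cancelBaseChange_symm_tmul]
        have key : ∀ (Z : Type u) [AddCommGroup Z] [Module A Z] [Module R Z] [IsScalarTower R A Z] (z : Z),
            Algebra.IsPushout.cancelBaseChange R R' A (R' ⊗[R] A) Z
              (algebraMap R' (R' ⊗[R] A) s ⊗ₜ[A] z) = s ⊗ₜ[R] z := fun Z _ _ _ _ z => by
          rw [← Algebra.IsPushout.cancelBaseChange_symm_tmul R R' A (R' ⊗[R] A) Z s z,
            LinearEquiv.apply_symm_apply]
        have kx := (congrArg (extEquiv R R' ((res R A).obj X)) (key X x)).trans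
          (extEquiv_tmul R R' ((res R A).obj X) s x)
        have ky := (congrArg (extEquiv R R' ((res R A).obj Y)) (key Y (g x))).trans
          (extEquiv_tmul R R' ((res R A).obj Y) s (g x))
        refine Eq.trans ?_ (congrArg _ kx).symm
        exact ky.trans rfl)

/-- `extResComm` on complexes. -/
noncomputable def extResCommCx (F : DRing.Cx A) :
    (resCx R' (R' ⊗[R] A)).obj
        (((ModuleCat.extendScalars.{u, u, u} (inr' R A R')).mapHomologicalComplex _).obj F) ≅
      ((ModuleCat.extendScalars.{u, u, u} (algebraMap R R')).mapHomologicalComplex _).obj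
        ((resCx R A).obj F) :=
  (NatIso.mapHomologicalComplex (extResComm R A R') (ComplexShape.up ℤ)).app F

/-- Derived base change commutes with restriction of scalars, for `A` flat over `R`. -/
theorem lbase_restrict [Module.Flat R A] [DRing.HasLBaseChange (inr' R A R')]
    [DRing.HasLBaseChange (algebraMap R R')] {F : DRing.Cx A} {c : ℤ}
    (hc : DRing.VanishesAbove F c) (hF : DRing.TermwiseFlat F) :
    Nonempty ((DRing.restrictD (algebraMap R' (R' ⊗[R] A))).obj
        ((DRing.LBaseChange (inr' R A R')).obj (DRing.toD F)) ≅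
      (DRing.LBaseChange (algebraMap R R')).obj
        ((DRing.restrictD (algebraMap R A)).obj (DRing.toD F))) :=
  ⟨(DRing.restrictD _).mapIso (TorAmp.lbaseObj _ F (TorAmp.isKFlat_of_flat hc hF)) ≪≫
    restrictToD R' (R' ⊗[R] A) _ ≪≫ DerivedCategory.Q.mapIso (extResCommCx R A R' F) ≪≫
    (TorAmp.lbaseObj (algebraMap R R') ((resCx R A).obj F)
      (TorAmp.isKFlat_of_flat (c := c) (fun i hi => (res R A).map_isZero (hc i hi))
        fun i => haveI := hF i; flat_res_of_flat (F.X i))).symm ≪≫
    (DRing.LBaseChange (algebraMap R R')).mapIso (restrictToD R A F).symm⟩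

theorem isRelPerfect_lbase [Module.Flat R A] [DRing.HasLBaseChange (inr' R A R')]
    {K : Dual.D A} (hK : Dual2.IsRelPerfect R A K) :
    Dual2.IsRelPerfect R' (R' ⊗[R] A) ((DRing.LBaseChange (inr' R A R')).obj K) := by
  obtain ⟨⟨F, c, hc, hF, ⟨e⟩⟩, a, b, hT⟩ := hK
  haveI := TorAmp.hasLBaseChange (algebraMap R R')
  have hflat : DRing.TermwiseFlat F := fun i => haveI := (hF i).2; inferInstance
  refine ⟨⟨((ModuleCat.extendScalars.{u, u, u} (inr' R A R')).mapHomologicalComplex _).obj F, c,
    fun i hi => (ModuleCat.extendScalars.{u, u, u} (inr' R A R')).map_isZero (hc i hi), fun i => ?_,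
    ⟨(TorAmp.lbaseObj _ F (TorAmp.isKFlat_of_flat hc hflat)).symm ≪≫
      (DRing.LBaseChange (inr' R A R')).mapIso e⟩⟩, a, b, ?_⟩
  · letI := (inr' R A R').toAlgebra
    haveI := (hF i).1
    haveI := (hF i).2
    exact ⟨inferInstanceAs (Module.Finite (R' ⊗[R] A) ((R' ⊗[R] A) ⊗[A] (F.X i))),
      inferInstanceAs (Module.Free (R' ⊗[R] A) ((R' ⊗[R] A) ⊗[A] (F.X i)))⟩
  · obtain ⟨i⟩ := lbase_restrict R A R' hc hflat
    exact TorAmp.ta_of_iso (i.symm ≪≫ (DRing.restrictD _).mapIso
        ((DRing.LBaseChange (inr' R A R')).mapIso e))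
      (TorAmp.ta_lbase _ (TorAmp.ta_of_iso ((DRing.restrictD _).mapIso e.symm) hT))

theorem isRelPerfect_of_nilpotent [Module.Flat R A] [DRing.HasLBaseChange (inr' R A R')]
    (hs : Function.Surjective (algebraMap R R'))
    (hn : IsNilpotent (RingHom.ker (algebraMap R R'))) {K : Dual.D A}
    (hK : Dual2.IsRelPerfect R' (R' ⊗[R] A) ((DRing.LBaseChange (inr' R A R')).obj K)) :
    Dual2.IsRelPerfect R A K := by
  obtain ⟨hp', a, b, hT⟩ := hK
  have hsurj : Function.Surjective (inr' R A R') := fun z => by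
    induction z using TensorProduct.induction_on with
    | zero => exact ⟨0, map_zero _⟩
    | add p q hp hq =>
      obtain ⟨p, rfl⟩ := hp
      obtain ⟨q, rfl⟩ := hq
      exact ⟨p + q, map_add _ _ _⟩
    | tmul s x =>
      obtain ⟨r, rfl⟩ := hs s
      exact ⟨r • x, by
        show (1 : R') ⊗ₜ[R] (r • x) = algebraMap R R' r ⊗ₜ x
        rw [← TensorProduct.smul_tmul, Algebra.smul_def, mul_one]⟩
  have hker : IsNilpotent (RingHom.ker (inr' R A R')) := by
    obtain ⟨n, hn⟩ := hn
    refine ⟨n, ?_⟩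
    have hle : RingHom.ker (inr' R A R') ≤ (RingHom.ker (algebraMap R R')).map (algebraMap R A) := by
      intro x hx
      have hx' : (1 : R') ⊗ₜ[R] x = 0 := hx
      have hex := rTensor_exact A
        (LinearMap.exact_subtype_ker_map (Algebra.linearMap R R'))
        (show Function.Surjective (Algebra.linearMap R R') from hs)
      obtain ⟨w, hw⟩ := (hex ((1 : R) ⊗ₜ[R] x)).1 (by
        rw [LinearMap.rTensor_tmul, Algebra.linearMap_apply, map_one, hx'])
      have : x = TensorProduct.lid R A ((LinearMap.ker (Algebra.linearMap R R')).subtype.rTensor A w) := by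
        rw [hw, TensorProduct.lid_tmul, one_smul]
      rw [this]
      clear this hw
      induction w using TensorProduct.induction_on with
      | zero => simp
      | add p q hp hq => rw [map_add, map_add]; exact add_mem hp hq
      | tmul k y =>
        rw [LinearMap.rTensor_tmul, TensorProduct.lid_tmul, Algebra.smul_def]
        exact Ideal.mul_mem_right _ _ (Ideal.mem_map_of_mem _ k.2)
    refine le_bot_iff.1 ((Ideal.pow_right_mono hle n).trans ?_)
    rw [← Ideal.map_pow, hn, Submodule.zero_eq_bot, Ideal.map_bot]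
  have hp := TorAmp.pc'_of_nilpotent hsurj hker K hp'
  obtain ⟨F, c, hc, hF, ⟨e⟩⟩ := hp
  haveI := TorAmp.hasLBaseChange (algebraMap R R')
  have hflat : DRing.TermwiseFlat F := fun i => haveI := (hF i).2; inferInstance
  obtain ⟨i⟩ := lbase_restrict R A R' hc hflat
  refine ⟨⟨F, c, hc, hF, ⟨e⟩⟩, a, b, TorAmp.ta_of_nilpotent hs hn _ ?_⟩
  exact TorAmp.ta_of_iso (((DRing.restrictD _).mapIso ((DRing.LBaseChange (inr' R A R')).mapIso e)).symm ≪≫
    i ≪≫ (DRing.LBaseChange (algebraMap R R')).mapIso ((DRing.restrictD (algebraMap R A)).mapIso e)) hT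

end BaseChange

end Groth.Agent.H26Dual2
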