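import Mathlib.RingTheory.Polynomial.Basic
import Mathlib.Algebra.Ring.GeomSum
import Mathlib.Algebra.Algebra.Bilinear

/-!
# The module-theoretic core of duality for a polynomial variable

`P` plays multiplication by the variable on the target, `Q` on the source, and `g` is a monic
polynomial killing the source. Then `P - Q` is injective and `ι H` is a complement of its image.
-/

set_option autoImplicit false

universe u v w

open Polynomial

namespace Groth.Agent.H26Dual2

variable {B : Type u} [CommRing B] {S : Type v} [AddCommGroup S] [Module B S]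
  {H : Type w} [AddCommGroup H] [Module B H]

theorem exists_cofactor (P Q : Module.End B S) (hPQ : Commute P Q) (g : B[X])
    (hQg : aeval Q g = 0) :
    (P - Q) * (∑ n ∈ Finset.range (g.natDegree + 1), g.coeff n •
        ∑ i ∈ Finset.range n, P ^ i * Q ^ (n - 1 - i)) = aeval P g ∧
      (∑ n ∈ Finset.range (g.natDegree + 1), g.coeff n •
        ∑ i ∈ Finset.range n, P ^ i * Q ^ (n - 1 - i)) * (P - Q) = aeval P g := by
  set W := ∑ n ∈ Finset.range (g.natDegree + 1), g.coeff n •
        ∑ i ∈ Finset.range n, P ^ i * Q ^ (n - 1 - i) with hW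
  have h1 : (P - Q) * W = aeval P g := by
    rw [hW, Finset.mul_sum]
    conv_rhs => rw [← sub_zero (aeval P g), ← hQg, aeval_eq_sum_range, aeval_eq_sum_range,
      ← Finset.sum_sub_distrib]
    refine Finset.sum_congr rfl fun n _ => ?_
    rw [mul_smul_comm, hPQ.mul_geom_sum₂, smul_sub]
  refine ⟨h1, ?_⟩
  rw [← h1]
  have hc : Commute W (P - Q) := by
    rw [hW]
    refine Commute.sum_left _ _ _ fun n _ => Commute.smul_left (Commute.sum_left _ _ _ fun i _ => ?_) _
    exact Commute.mul_left
      ((Commute.sub_right (Commute.refl P) hPQ).pow_left i)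
      ((Commute.sub_right hPQ.symm (Commute.refl Q)).pow_left _)
  exact hc.eq

/-- `P - Q` is injective and the image of `ι` is a complement of its range. -/
theorem polyAlg (P Q : Module.End B S) (hPQ : Commute P Q) (QH : Module.End B H) (ι : H →ₗ[B] S)
    (hQι : ∀ h, Q (ι h) = ι (QH h)) (g : B[X]) (hg : g.Monic) (hd : 0 < g.natDegree)
    (hQg : aeval Q g = 0) (q : S → S) (hq : ∀ u, q (aeval P g u) = u) (hq0 : q 0 = 0)
    (ρ : S →ₗ[B] H) (hρg : ∀ u, ρ (aeval P g u) = 0)
    (hρι : ∀ i, i < g.natDegree → ∀ h, ρ ((P ^ i) (ι h)) = if i + 1 = g.natDegree then h else 0)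
    (hdec : ∀ u, ∃ (h : Fin g.natDegree → H) (v : S),
      u = (∑ i : Fin g.natDegree, (P ^ (i : ℕ)) (ι (h i))) + aeval P g v) :
    Function.Injective (P - Q) ∧ (∀ h, ι h ∈ LinearMap.range (P - Q) → h = 0) ∧
      ∀ u, ∃ h v, u = ι h + (P - Q) v := by
  classical
  obtain ⟨hl, hr⟩ := exists_cofactor P Q hPQ g hQg
  set W := ∑ n ∈ Finset.range (g.natDegree + 1), g.coeff n •
        ∑ i ∈ Finset.range n, P ^ i * Q ^ (n - 1 - i) with hW
  have hQpow : ∀ (k : ℕ) (h : H), (Q ^ k) (ι h) = ι ((QH ^ k) h) := by
    intro k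
    induction k with
    | zero => intro h; simp
    | succ k ih => intro h; rw [pow_succ', Module.End.mul_apply, ih, hQι, pow_succ', Module.End.mul_apply]
  refine ⟨?_, ?_, ?_⟩
  · refine (injective_iff_map_eq_zero _).2 fun u hu => ?_
    have : aeval P g u = 0 := by rw [← hr, Module.End.mul_apply, hu, map_zero]
    rw [← hq u, this, hq0]
  · rintro h ⟨v, hv⟩
    have h1 : W (ι h) = aeval P g v := by rw [← hr, Module.End.mul_apply, hv]
    have h2 : ρ (W (ι h)) = h := by
      rw [hW, LinearMap.sum_apply, map_sum, Finset.sum_eq_single g.natDegree]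
      · rw [show g.coeff g.natDegree = 1 from hg, one_smul, LinearMap.sum_apply, map_sum,
          Finset.sum_eq_single (g.natDegree - 1)]
        · rw [Module.End.mul_apply, hQpow, hρι _ (by omega), if_pos (by omega)]
          simp
        · intro i hi hne
          rw [Finset.mem_range] at hi
          rw [Module.End.mul_apply, hQpow, hρι _ hi, if_neg (by omega)]
        · intro hni
          exact absurd (Finset.mem_range.2 (by omega)) hni
      · intro n hn hne
        rw [Finset.mem_range] at hn
        rw [LinearMap.smul_apply, map_smul, LinearMap.sum_apply, map_sum,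
          Finset.sum_eq_zero, smul_zero]
        intro i hi
        rw [Finset.mem_range] at hi
        rw [Module.End.mul_apply, hQpow, hρι _ (by omega), if_neg (by omega)]
      · intro hni
        exact absurd (Finset.mem_range.2 (by omega)) hni
    rw [← h2, h1, hρg]
  · intro u
    obtain ⟨h, v, rfl⟩ := hdec u
    have hpow : ∀ i : ℕ, ∃ R : Module.End B S, P ^ i = Q ^ i + (P - Q) * R := fun i =>
      ⟨∑ j ∈ Finset.range i, P ^ j * Q ^ (i - 1 - j), by rw [hPQ.mul_geom_sum₂]; abel⟩
    choose R hR using hpow
    refine ⟨∑ i : Fin g.natDegree, (QH ^ (i : ℕ)) (h i),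
      (∑ i : Fin g.natDegree, R (i : ℕ) (ι (h i))) + W v, ?_⟩
    rw [← hl, Module.End.mul_apply, map_add, map_sum, map_sum, ← add_assoc, ← Finset.sum_add_distrib]
    refine congrArg (· + (P - Q) (W v)) (Finset.sum_congr rfl fun i _ => ?_)
    conv_lhs => rw [hR (i : ℕ), LinearMap.add_apply, Module.End.mul_apply, hQpow]

end Groth.Agent.H26Dual2
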