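import Mathlib.RingTheory.Polynomial.Basic
import Mathlib.Algebra.Polynomial.RingDivision
import Mathlib.LinearAlgebra.TensorProduct.Basis
import Mathlib.RingTheory.TensorProduct.Basic
import Mathlib.Algebra.Exact.Basic
import Mathlib.Algebra.Polynomial.Basis
import Mathlib.RingTheory.Flat.Basic

/-!
# A polynomial variable: the two-term resolution and division by a monic polynomial
-/

set_option autoImplicit false

universe u

open Polynomial TensorProduct

namespace Groth.Agent.H26Dual2

variable {B C : Type u} [CommRing B] [CommRing C] [Algebra B C] {x : C}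
  (hx : Function.Bijective (aeval (R := B) x))

/-- The isomorphism `B[X] ≅ C`. -/
noncomputable def polyEquiv : B[X] ≃ₐ[B] C := AlgEquiv.ofBijective (aeval (R := B) x) hx

@[simp] lemma polyEquiv_apply (p : B[X]) : polyEquiv hx p = aeval x p := rfl

lemma polyEquiv_symm_aeval (p : B[X]) : (polyEquiv hx).symm (aeval x p) = p :=
  (polyEquiv hx).symm_apply_apply p

/-- The basis of powers. -/
noncomputable def powBasis : Module.Basis ℕ B C :=
  (Polynomial.basisMonomials B).map (polyEquiv hx).toLinearEquiv

lemma powBasis_apply (n : ℕ) : powBasis hx n = x ^ n := by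
  simp [powBasis]

include hx in
lemma flat_of_polyVar : Module.Flat B C :=
  haveI := Module.Free.of_basis (powBasis hx)
  inferInstance

section Seq

variable {M : Type u} [AddCommGroup M] [Module C M] [Module B M] [IsScalarTower B C M]

include hx in
lemma tensor_ext {N : Type u} [AddCommGroup N] [Module B N] {f g : C ⊗[B] M →ₗ[B] N}
    (h : ∀ (n : ℕ) (m : M), f ((x ^ n) ⊗ₜ m) = g ((x ^ n) ⊗ₜ m)) : f = g := by
  apply TensorProduct.ext
  refine (powBasis hx).ext fun n => LinearMap.ext fun m => ?_
  rw [powBasis_apply]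
  exact h n m

/-- The contracting homotopy on monomials. -/
noncomputable def homD (x : C) : ℕ → M → C ⊗[B] M
  | 0, _ => 0
  | n + 1, m => x • homD x n m - (1 : C) ⊗ₜ (x ^ n • m)

lemma homD_add : ∀ (n : ℕ) (m m' : M),
    homD (B := B) x n (m + m') = homD x n m + homD x n m'
  | 0, _, _ => (add_zero 0).symm
  | n + 1, m, m' => by
    simp only [homD, homD_add n m m', smul_add, tmul_add]
    abel

lemma homD_smul : ∀ (n : ℕ) (b : B) (m : M), homD (B := B) x n (b • m) = b • homD x n m
  | 0, _, _ => (smul_zero _).symm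
  | n + 1, b, m => by
    simp only [homD, homD_smul n b m, smul_sub]
    rw [smul_comm x b, smul_comm (x ^ n) b m, tmul_smul]

/-- The sequence `C ⊗ M → C ⊗ M → M` of a polynomial variable is short exact. -/
theorem exact_polySeq (θ : C ⊗[B] M →ₗ[C] C ⊗[B] M)
    (hθ : ∀ (c : C) (m : M), θ (c ⊗ₜ m) = c ⊗ₜ (x • m) - (x * c) ⊗ₜ m)
    (ε : C ⊗[B] M →ₗ[C] M) (hε : ∀ (c : C) (m : M), ε (c ⊗ₜ m) = c • m)
    (hx : Function.Bijective (aeval (R := B) x)) :
    Function.Injective θ ∧ Function.Exact θ ε ∧ Function.Surjective ε := by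
  let D (n : ℕ) : M →ₗ[B] C ⊗[B] M :=
    { toFun := homD x n, map_add' := homD_add n, map_smul' := fun b m => homD_smul n b m }
  let h : C ⊗[B] M →ₗ[B] C ⊗[B] M := TensorProduct.lift ((powBasis hx).constr B D)
  have hh : ∀ (n : ℕ) (m : M), h ((x ^ n) ⊗ₜ m) = homD x n m := fun n m => by
    simp only [h, TensorProduct.lift.tmul, ← powBasis_apply hx n, Module.Basis.constr_basis]
    rfl
  let s : M →ₗ[B] C ⊗[B] M := TensorProduct.mk B C M 1
  have k1 : h ∘ₗ θ.restrictScalars B = LinearMap.id := tensor_ext hx fun n m => by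
    have key : ∀ n : ℕ, homD (B := B) x n (x • m) - homD x (n + 1) m = (x ^ n) ⊗ₜ m := by
      intro n
      induction n with
      | zero => simp [homD]
      | succ n ih =>
        have h1 : (x ^ (n + 1)) ⊗ₜ[B] m = x • ((x ^ n) ⊗ₜ[B] m) := by
          rw [smul_tmul', smul_eq_mul, ← pow_succ']
        rw [h1, ← ih]
        simp only [homD, smul_sub, pow_succ, mul_smul]
        abel
    simp only [LinearMap.comp_apply, LinearMap.restrictScalars_apply, LinearMap.id_apply, hθ, map_sub,
      ← pow_succ', hh]
    exact key n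
  have k2 : θ.restrictScalars B ∘ₗ h + s ∘ₗ ε.restrictScalars B = LinearMap.id :=
    tensor_ext hx fun n m => by
      have key : ∀ n : ℕ, θ (homD x n m) = (x ^ n) ⊗ₜ m - (1 : C) ⊗ₜ (x ^ n • m) := by
        intro n
        induction n with
        | zero => simp [homD]
        | succ n ih =>
          simp only [homD, map_sub, map_smul, ih, hθ, smul_sub, smul_tmul', smul_eq_mul, mul_one,
            ← pow_succ', pow_succ, mul_smul]
          rw [show x ^ n * x = x * x ^ n from mul_comm _ _, ← mul_smul x (x ^ n) m,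
            ← mul_smul (x ^ n) x m, mul_comm (x ^ n) x]
          abel
      simp only [LinearMap.add_apply, LinearMap.comp_apply, LinearMap.restrictScalars_apply,
        LinearMap.id_apply, hh, key, hε, s, TensorProduct.mk_apply]
      abel
  refine ⟨fun a b hab => ?_, fun z => ⟨fun hz => ⟨h z, ?_⟩, ?_⟩, fun m => ⟨1 ⊗ₜ m, by rw [hε, one_smul]⟩⟩
  · have := congrArg h hab
    exact (LinearMap.congr_fun k1 a).symm.trans (this.trans (LinearMap.congr_fun k1 b))
  · have h2 : θ (h z) + s (ε z) = z := LinearMap.congr_fun k2 z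
    rwa [hz, map_zero, add_zero] at h2
  · rintro ⟨w, rfl⟩
    induction w with
    | zero => simp
    | tmul c m =>
      rw [hθ, map_sub, hε, hε, ← mul_smul, mul_comm c x, sub_self]
    | add a b ha hb => rw [map_add, map_add, ha, hb, add_zero]

end Seq

section Div

variable (g : B[X]) (hg : g.Monic)

/-- Coefficient `i` of the remainder modulo `g`. -/
noncomputable def remCoeff (i : ℕ) : C →ₗ[B] B :=
  (Polynomial.lcoeff B i) ∘ₗ (Polynomial.modByMonicHom g) ∘ₗ (polyEquiv hx).symm.toLinearMap

lemma remCoeff_apply (i : ℕ) (c : C) :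
    remCoeff hx g i c = ((polyEquiv hx).symm c %ₘ g).coeff i := rfl

include hg in
lemma divByMonic_eq_of_add (p q r : B[X]) (h : r + g * q = p) (hr : r.degree < g.degree) :
    p /ₘ g = q := by
  nontriviality B
  exact (div_modByMonic_unique q r hg ⟨h, hr⟩).1

/-- The quotient by `g`. -/
noncomputable def quo : C →ₗ[B] C :=
  (polyEquiv hx).toLinearMap ∘ₗ
    ({ toFun := fun p => p /ₘ g
       map_add' := fun p q => by
        by_cases hB : Nontrivial B
        · refine divByMonic_eq_of_add g hg _ _ (p %ₘ g + q %ₘ g) ?_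
            ((degree_add_le _ _).trans_lt (max_lt (degree_modByMonic_lt _ hg) (degree_modByMonic_lt _ hg)))
          conv_rhs => rw [← modByMonic_add_div p g, ← modByMonic_add_div q g]
          ring
        · haveI := not_nontrivial_iff_subsingleton.1 hB
          exact Subsingleton.elim _ _
       map_smul' := fun b p => by
        by_cases hB : Nontrivial B
        · refine divByMonic_eq_of_add g hg _ _ (b • (p %ₘ g)) ?_
            ((degree_smul_le _ _).trans_lt (degree_modByMonic_lt _ hg))
          conv_rhs => rw [← modByMonic_add_div p g]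
          simp [smul_add]
        · haveI := not_nontrivial_iff_subsingleton.1 hB
          exact Subsingleton.elim _ _ } : B[X] →ₗ[B] B[X]) ∘ₗ (polyEquiv hx).symm.toLinearMap

lemma quo_apply (c : C) : quo hx g hg c = aeval x ((polyEquiv hx).symm c /ₘ g) := rfl

include hg in
lemma quo_mul (c : C) : quo hx g hg (aeval x g * c) = c := by
  obtain ⟨p, rfl⟩ := hx.2 c
  rw [← map_mul, quo_apply, polyEquiv_symm_aeval, mul_divByMonic_cancel_left _ hg]

include hg in
lemma remCoeff_mul (i : ℕ) (c : C) : remCoeff hx g i (aeval x g * c) = 0 := by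
  obtain ⟨p, rfl⟩ := hx.2 c
  rw [← map_mul, remCoeff_apply, polyEquiv_symm_aeval, self_mul_modByMonic hg, coeff_zero]

include hg in
lemma remCoeff_pow {i j : ℕ} (hj : j < g.natDegree) :
    remCoeff hx g i (x ^ j) = if i = j then 1 else 0 := by
  nontriviality B
  rw [show x ^ j = aeval (R := B) x (X ^ j) by simp, remCoeff_apply, polyEquiv_symm_aeval,
    (modByMonic_eq_self_iff hg).2 (by
      rw [degree_X_pow, degree_eq_natDegree hg.ne_zero]
      exact_mod_cast hj), coeff_X_pow]

include hg in
lemma decomp (c : C) :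
    c = (∑ i : Fin g.natDegree, remCoeff hx g (i : ℕ) c • x ^ (i : ℕ)) +
      aeval x g * quo hx g hg c := by
  obtain ⟨p, rfl⟩ := hx.2 c
  simp only [remCoeff_apply, quo_apply, polyEquiv_symm_aeval]
  conv_lhs => rw [← modByMonic_add_div p g, map_add, map_mul]
  congr 1
  rcases subsingleton_or_nontrivial B with hB | hB
  · rw [Subsingleton.elim (p %ₘ g) 0]; simp
  by_cases hd : g = 1
  · subst hd; simp
  · rw [aeval_eq_sum_range' (natDegree_modByMonic_lt p hg hd), Finset.sum_range]

end Div

end Groth.Agent.H26Dual2
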