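import Groth.Agent.H26Dual2.PolyTower
import Groth.Agent.S12898
import Groth.Prelude.Def_DualSh

/-!
# The functor corepresenting `φ^!`

For a presentation `ψ : R[x₁, …, xₙ] → A`, the presheaf `N ↦ Hom(N, φ^! K)` is compared with
restriction of scalars along any factorization through a larger polynomial ring.
-/

set_option autoImplicit false
set_option linter.style.haveILetI false

universe u

open CategoryTheory CategoryTheory.Limits Opposite

attribute [local instance] HasDerivedCategory.standard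

namespace Groth.Agent.H26Dual2

variable {B P A : Type u} [CommRing B] [CommRing P] [CommRing A]

/-- A right adjoint of restriction of scalars commutes with shifts. -/
noncomputable def shiftRightAdjointIso {ψ : P →+* A} {Rψ : Dual.D P ⥤ Dual.D A}
    (adj : TD ψ ⊣ Rψ) (n : ℤ) :
    Rψ ⋙ shiftFunctor (Dual.D A) n ≅ shiftFunctor (Dual.D P) n ⋙ Rψ :=
  (((shiftEquiv' (Dual.D A) (-n) n (neg_add_cancel n)).toAdjunction.comp adj).ofNatIsoLeft
      ((TD ψ).commShiftIso (-n))).rightAdjointUniq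
    (adj.comp (shiftEquiv' (Dual.D P) (-n) n (neg_add_cancel n)).toAdjunction)

/-- The presheaf corepresented by `RHom_P(A, Y)[n]`. -/
noncomputable def yonedaShiftIso {ψ : P →+* A} {Rψ : Dual.D P ⥤ Dual.D A}
    (adj : TD ψ ⊣ Rψ) (Y : Dual.D P) (n : ℤ) :
    yoneda.obj ((Rψ.obj Y)⟦n⟧) ≅ (TD ψ).op ⋙ yoneda.obj (Y⟦n⟧) :=
  yoneda.mapIso ((shiftRightAdjointIso adj n).app Y) ≪≫ (adj.representableBy (Y⟦n⟧)).toIso

/-- Passing from a presentation to a larger polynomial ring. -/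
theorem presheafComparison {Q : Type u} [CommRing Q] (φ : B →+* P) (φ' : P →+* Q) (hflat : φ'.Flat)
    (φQ : B →+* Q) (hφQ : φ'.comp φ = φQ) (ψ : P →+* A) (ψQ : Q →+* A) (hψ : ψQ.comp φ' = ψ)
    (m : ℤ) (hSD : ShriekDual φ' ψQ m)
    (G : Dual.D B ⥤ Dual.D P) (adjG : G ⊣ TD φ) (H : Dual.D B ⥤ Dual.D Q) (adjH : H ⊣ TD φQ)
    (Rψ : Dual.D P ⥤ Dual.D A) (adj : TD ψ ⊣ Rψ) (n k : ℤ) (hk : n + m = k) (K : Dual.D B) :
    Nonempty (yoneda.obj ((Rψ.obj (G.obj K))⟦n⟧) ≅ (TD ψQ).op ⋙ yoneda.obj ((H.obj K)⟦k⟧)) := by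
  subst hψ hφQ
  haveI : PreservesFiniteLimits (exF φ') := ModuleCat.preservesFiniteLimits_extendScalars_of_flat hflat
  let adj' : G ⋙ GD φ' ⊣ TD (φ'.comp φ) :=
    (adjG.comp (gtAdj φ')).ofNatIsoRight (tdComp φ φ').symm
  let i : (GD φ').obj (G.obj K) ≅ H.obj K := (adj'.leftAdjointUniq adjH).app K
  obtain ⟨b⟩ := hSD (GD φ') (gtAdj φ') ((G.obj K)⟦n⟧)
  let s : ((GD φ').obj ((G.obj K)⟦n⟧))⟦m⟧ ≅ (H.obj K)⟦k⟧ :=
    (shiftFunctor (Dual.D Q) m).mapIso (((GD φ').commShiftIso n).app _) ≪≫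
      ((shiftFunctorAdd' (Dual.D Q) n m k hk).app _).symm ≪≫ (shiftFunctor (Dual.D Q) k).mapIso i
  exact ⟨yonedaShiftIso adj (G.obj K) n ≪≫
    Functor.isoWhiskerRight (NatIso.op (tdComp φ' ψQ).symm) (yoneda.obj _) ≪≫ b ≪≫
    Functor.isoWhiskerLeft _ (yoneda.mapIso s)⟩

lemma isIntegral_of_surjective (f : P →+* A) (hf : Function.Surjective f) : f.IsIntegral := fun a => by
  obtain ⟨p, rfl⟩ := hf a
  exact ⟨Polynomial.X - Polynomial.C p, Polynomial.monic_X_sub_C p, by simp⟩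

variable (R : Type u) [CommRing R] [Algebra R A]

/-- The finite case. -/
theorem shriekVia_iso_of_finite (n : ℕ) (ψ : MvPolynomial (Fin n) R →ₐ[R] A)
    [DRing.HasLBaseChange (algebraMap R (MvPolynomial (Fin n) R))]
    (Rψ : Dual.D (MvPolynomial (Fin n) R) ⥤ Dual.D A) (adj : TD ψ.toRingHom ⊣ Rψ) [Module.Finite R A]
    (R' : Dual.D R ⥤ Dual.D A) (adjR : TD (algebraMap R A) ⊣ R') (K : Dual.D R) :
    Nonempty (Dual2.shriekVia n Rψ K ≅ R'.obj K) := by
  have hc : ψ.toRingHom.comp (algebraMap R (MvPolynomial (Fin n) R)) = algebraMap R A := ψ.comp_algebraMap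
  have hint : (ψ.toRingHom.comp MvPolynomial.C).IsIntegral := by
    rw [show (MvPolynomial.C : R →+* MvPolynomial (Fin n) R) = algebraMap R _ from
      (MvPolynomial.algebraMap_eq R (Fin n)).symm, hc]
    exact algebraMap_isIntegral_iff.2 (Algebra.IsIntegral.of_finite R A)
  obtain ⟨adjL⟩ := Groth.Agent.S12898.result (algebraMap R (MvPolynomial (Fin n) R))
  obtain ⟨b⟩ := shriekDual_mvPolynomial n ψ.toRingHom hint
    (DRing.LBaseChange (algebraMap R (MvPolynomial (Fin n) R))) adjL K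
  let c : TD (algebraMap R A) ≅ TD ψ.toRingHom ⋙ TD (algebraMap R (MvPolynomial (Fin n) R)) :=
    eqToIso (by rw [hc]) ≪≫ tdComp (algebraMap R (MvPolynomial (Fin n) R)) ψ.toRingHom
  exact ⟨Yoneda.fullyFaithful.preimageIso (yonedaShiftIso adj _ (n : ℤ) ≪≫ b.symm ≪≫
    Functor.isoWhiskerRight (NatIso.op c) (yoneda.obj K) ≪≫ (adjR.representableBy K).toIso.symm)⟩

/-- Independence of the presentation. -/
theorem shriekVia_independent (n : ℕ) (ψ : MvPolynomial (Fin n) R →ₐ[R] A) (hψ : Function.Surjective ψ)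
    [DRing.HasLBaseChange (algebraMap R (MvPolynomial (Fin n) R))]
    (Rψ : Dual.D (MvPolynomial (Fin n) R) ⥤ Dual.D A) (adj : TD ψ.toRingHom ⊣ Rψ) (m : ℕ)
    (ψ' : MvPolynomial (Fin m) R →ₐ[R] A) (hψ' : Function.Surjective ψ')
    [DRing.HasLBaseChange (algebraMap R (MvPolynomial (Fin m) R))]
    (Rψ' : Dual.D (MvPolynomial (Fin m) R) ⥤ Dual.D A) (adj' : TD ψ'.toRingHom ⊣ Rψ') (K : Dual.D R) :
    Nonempty (Dual2.shriekVia n Rψ K ≅ Dual2.shriekVia m Rψ' K) := by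
  obtain ⟨adjL⟩ := Groth.Agent.S12898.result (algebraMap R (MvPolynomial (Fin n) R))
  obtain ⟨adjL'⟩ := Groth.Agent.S12898.result (algebraMap R (MvPolynomial (Fin m) R))
  let e : MvPolynomial (Fin n) (MvPolynomial (Fin m) R) ≃ₐ[R]
      MvPolynomial (Fin m) (MvPolynomial (Fin n) R) := MvPolynomial.commAlgEquiv R (Fin n) (Fin m)
  let ψQ : MvPolynomial (Fin m) (MvPolynomial (Fin n) R) →+* A :=
    MvPolynomial.eval₂Hom ψ.toRingHom (fun i => ψ' (MvPolynomial.X i))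
  let φ₁ : MvPolynomial (Fin n) R →+* MvPolynomial (Fin m) (MvPolynomial (Fin n) R) := MvPolynomial.C
  let φ₂ : MvPolynomial (Fin m) R →+* MvPolynomial (Fin m) (MvPolynomial (Fin n) R) :=
    e.toRingEquiv.toRingHom.comp MvPolynomial.C
  have hC₁ : ψQ.comp φ₁ = ψ.toRingHom := RingHom.ext fun p => MvPolynomial.eval₂Hom_C _ _ p
  have hC₂ : ψQ.comp φ₂ = ψ'.toRingHom := by
    refine MvPolynomial.ringHom_ext (fun r => ?_) (fun i => ?_)
    · simp [ψQ, φ₂, e]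
    · simp [ψQ, φ₂, e]
  have hs₁ : (φ₁.comp (algebraMap R _) : R →+* _) = φ₂.comp (algebraMap R _) :=
    RingHom.ext fun r => by simp [φ₁, φ₂, e]
  haveI := ModuleCat.preservesFiniteLimits_extendScalars_of_flat
    (flat_mvPolynomial_C (MvPolynomial (Fin n) R) m)
  let adjH := (adjL.comp (gtAdj φ₁)).ofNatIsoRight
    (tdComp (algebraMap R (MvPolynomial (Fin n) R)) φ₁).symm
  have he : e.toRingEquiv.toRingHom.Flat := RingHom.Flat.of_bijective e.bijective
  have hSD₁ : ShriekDual φ₁ ψQ (m : ℤ) :=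
    shriekDual_mvPolynomial m ψQ (isIntegral_of_surjective _ (by rw [hC₁]; exact hψ))
  have hSD₂ : ShriekDual φ₂ ψQ (n : ℤ) :=
    (shriekDual_mvPolynomial n (ψQ.comp e.toRingEquiv.toRingHom)
      (isIntegral_of_surjective _ (by rw [RingHom.comp_assoc]; exact hC₂ ▸ hψ'))).comp
      (add_zero _) (flat_mvPolynomial_C _ n) he (shriekDual_of_bijective _ e.bijective ψQ)
  obtain ⟨a₁⟩ := presheafComparison (algebraMap R (MvPolynomial (Fin n) R)) φ₁ (flat_mvPolynomial_C _ m)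
    _ rfl ψ.toRingHom ψQ hC₁ _ hSD₁ _ adjL _ adjH Rψ adj (n : ℤ) _ rfl K
  obtain ⟨a₂⟩ := presheafComparison (algebraMap R (MvPolynomial (Fin m) R)) φ₂
    ((flat_mvPolynomial_C _ n).comp he) _ hs₁.symm ψ'.toRingHom ψQ hC₂ _ hSD₂ _ adjL' _ adjH Rψ' adj'
    (m : ℤ) _ (add_comm _ _) K
  exact ⟨Yoneda.fullyFaithful.preimageIso (a₁ ≪≫ a₂.symm)⟩

end Groth.Agent.H26Dual2
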