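import Groth.Agent.H26Dual2.ShriekComp
import Mathlib.RingTheory.TensorProduct.MvPolynomial

/-!
# Flat base change of the upper shriek
-/

set_option autoImplicit false
set_option linter.style.haveILetI false

universe u

open CategoryTheory CategoryTheory.Limits Pretriangulated Opposite TensorProduct

attribute [local instance] HasDerivedCategory.standard

namespace Groth.Agent.H26Dual2

variable (R R' : Type u) [CommRing R] [CommRing R'] [Algebra R R'] (n : ℕ)

/-- `R[x] → R'[x]`. -/
noncomputable abbrev polyMap : MvPolynomial (Fin n) R →+* MvPolynomial (Fin n) R' :=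
  MvPolynomial.map (algebraMap R R')

lemma polyMap_flat [Module.Flat R R'] : (polyMap R R' n).Flat := by
  letI := MvPolynomial.algebraMvPolynomial (R := R) (S := R') (σ := Fin n)
  have h := (Algebra.IsPushout.out (R := R) (S := MvPolynomial (Fin n) R) (R' := R')
    (S' := MvPolynomial (Fin n) R'))
  have hf : Module.Flat (MvPolynomial (Fin n) R) (MvPolynomial (Fin n) R') :=
    Module.Flat.isBaseChange R (MvPolynomial (Fin n) R) R' _ h
  rw [show polyMap R R' n = algebraMap (MvPolynomial (Fin n) R) (MvPolynomial (Fin n) R') from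
    MvPolynomial.algebraMap_def.symm]
  exact RingHom.flat_algebraMap_iff.2 hf

variable {A : Type u} [CommRing A] [Algebra R A] (ψ : MvPolynomial (Fin n) R →ₐ[R] A)

/-- The base changed presentation. -/
noncomputable def polyBC : MvPolynomial (Fin n) R' →ₐ[R'] R' ⊗[R] A :=
  MvPolynomial.aeval fun i => (1 : R') ⊗ₜ[R] ψ (MvPolynomial.X i)

lemma polyBC_sq : (polyBC R R' n ψ).toRingHom.comp (polyMap R R' n) =
    (Algebra.TensorProduct.includeRight : A →ₐ[R] R' ⊗[R] A).toRingHom.comp ψ.toRingHom := by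
  refine MvPolynomial.ringHom_ext (fun r => ?_) (fun i => ?_)
  · simp only [polyBC, RingHom.comp_apply, MvPolynomial.map_C, AlgHom.toRingHom_eq_coe, RingHom.coe_coe,
      MvPolynomial.aeval_C, Algebra.TensorProduct.algebraMap_apply, Algebra.TensorProduct.includeRight_apply,
      Algebra.algebraMap_self, RingHom.id_apply]
    rw [show ψ (MvPolynomial.C r) = algebraMap R A r from
      (congrArg ψ (DFunLike.congr_fun (MvPolynomial.algebraMap_eq R (Fin n)).symm r)).trans (ψ.commutes r),
      Algebra.algebraMap_eq_smul_one r, Algebra.algebraMap_eq_smul_one r, TensorProduct.smul_tmul]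
  · simp [polyBC]

lemma polyBC_surjective (hψ : Function.Surjective ψ) : Function.Surjective (polyBC R R' n ψ) := by
  intro t
  induction t using TensorProduct.induction_on with
  | zero => exact ⟨0, map_zero _⟩
  | tmul r a =>
    obtain ⟨p, rfl⟩ := hψ a
    refine ⟨MvPolynomial.C r * polyMap R R' n p, ?_⟩
    have h := DFunLike.congr_fun (polyBC_sq R R' n ψ) p
    simp only [RingHom.comp_apply, AlgHom.toRingHom_eq_coe, RingHom.coe_coe] at h
    rw [map_mul, h]
    simp [polyBC]
  | add u v hu hv =>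
    obtain ⟨x, rfl⟩ := hu
    obtain ⟨y, rfl⟩ := hv
    exact ⟨x + y, map_add _ _ _⟩

/-- `R' ⊗_R A = R'[x] ⊗_{R[x]} A`. -/
theorem isCocart_polyBC : IsCocart (polyBC_sq R R' n ψ) := by
  let φ := polyMap R R' n
  let T := (QP φ) ⊗[MvPolynomial (Fin n) R] ((reF ψ.toRingHom).obj (ModuleCat.of A A))
  let g : R' ⊗[R] A →+ T := TensorProduct.liftAddHom
    (AddMonoidHom.mk' (fun r : R' => AddMonoidHom.mk'
        (fun a : A => (mkQP φ (MvPolynomial.C r) ⊗ₜ[MvPolynomial (Fin n) R] mkA ψ.toRingHom a : T))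
        fun a a' => TensorProduct.tmul_add _ _ _)
      fun r r' => AddMonoidHom.ext fun a => by
        show (mkQP φ (MvPolynomial.C (r + r')) ⊗ₜ[MvPolynomial (Fin n) R] mkA ψ.toRingHom a : T) = _
        rw [map_add]
        exact TensorProduct.add_tmul _ _ _)
    fun r r' a => by
      show (mkQP φ (MvPolynomial.C (r • r')) ⊗ₜ[MvPolynomial (Fin n) R] mkA ψ.toRingHom a : T) =
        mkQP φ (MvPolynomial.C r') ⊗ₜ[MvPolynomial (Fin n) R] mkA ψ.toRingHom (r • a)
      have e1 : mkQP φ (MvPolynomial.C (r • r')) =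
          (MvPolynomial.C r : MvPolynomial (Fin n) R) • mkQP φ (MvPolynomial.C r') := by
        show (MvPolynomial.C (r • r') : MvPolynomial (Fin n) R') =
          polyMap R R' n (MvPolynomial.C r) * MvPolynomial.C r'
        rw [MvPolynomial.map_C, ← MvPolynomial.C_mul, Algebra.smul_def]
      rw [e1, TensorProduct.smul_tmul]
      refine congrArg (fun y => (mkQP φ (MvPolynomial.C r') ⊗ₜ[MvPolynomial (Fin n) R] y : T)) ?_
      show ψ (MvPolynomial.C r) * a = r • a
      rw [Algebra.smul_def, show ψ (MvPolynomial.C r) = algebraMap R A r from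
        (congrArg ψ (DFunLike.congr_fun (MvPolynomial.algebraMap_eq R (Fin n)).symm r)).trans (ψ.commutes r)]
  refine Function.bijective_iff_has_inverse.2 ⟨g, fun t => ?_, fun b => ?_⟩
  · induction t using TensorProduct.induction_on with
    | zero => rw [map_zero, map_zero]
    | tmul q a =>
      show g (polyBC R R' n ψ (toQ φ q) * (1 : R') ⊗ₜ[R] (toA a)) = q ⊗ₜ[MvPolynomial (Fin n) R] a
      suffices h : ∀ (p : MvPolynomial (Fin n) R') (a : A),
          g (polyBC R R' n ψ p * (1 : R') ⊗ₜ[R] a) = mkQP φ p ⊗ₜ[MvPolynomial (Fin n) R] mkA ψ.toRingHom a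
        from h (toQ φ q) (toA a)
      intro p
      induction p using MvPolynomial.induction_on with
      | C r =>
        intro a
        simp only [polyBC, MvPolynomial.aeval_C, Algebra.TensorProduct.algebraMap_apply,
          Algebra.algebraMap_self, RingHom.id_apply, Algebra.TensorProduct.tmul_mul_tmul, mul_one, one_mul]
        rfl
      | add p p' hp hp' =>
        intro a
        rw [map_add, add_mul, map_add, hp, hp']
        exact (TensorProduct.add_tmul _ _ _).symm
      | mul_X p i hp =>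
        intro a
        rw [map_mul (polyBC R R' n ψ), show polyBC R R' n ψ (MvPolynomial.X i) = (1 : R') ⊗ₜ[R] ψ (MvPolynomial.X i) by
          simp [polyBC], mul_assoc, Algebra.TensorProduct.tmul_mul_tmul, mul_one, hp]
        show (mkQP φ p ⊗ₜ[MvPolynomial (Fin n) R]
          ((MvPolynomial.X i : MvPolynomial (Fin n) R) • mkA ψ.toRingHom a) : T) = _
        rw [← TensorProduct.smul_tmul]
        refine congrArg (fun y : QP φ => (y ⊗ₜ[MvPolynomial (Fin n) R] mkA ψ.toRingHom a : T)) ?_
        show polyMap R R' n (MvPolynomial.X i) * p = p * MvPolynomial.X i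
        rw [MvPolynomial.map_X, mul_comm]
    | add u v hu hv => rw [map_add, map_add, hu, hv]
  · induction b using TensorProduct.induction_on with
    | zero => rw [map_zero, map_zero]
    | tmul r a =>
      show polyBC R R' n ψ (MvPolynomial.C r) * (1 : R') ⊗ₜ[R] a = r ⊗ₜ[R] a
      simp [polyBC]
    | add u v hu hv => rw [map_add, map_add, hu, hv]

/-- Flat base change. -/
theorem shriekVia_flat_baseChange [IsNoetherianRing R] [Module.Flat R R'] (hψ : Function.Surjective ψ)
    [DRing.HasLBaseChange (algebraMap R (MvPolynomial (Fin n) R))]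
    (Rψ : Dual.D (MvPolynomial (Fin n) R) ⥤ Dual.D A) (adj : TD ψ.toRingHom ⊣ Rψ) (m : ℕ)
    (ψ' : MvPolynomial (Fin m) R' →ₐ[R'] R' ⊗[R] A) (hψ' : Function.Surjective ψ')
    [DRing.HasLBaseChange (algebraMap R' (MvPolynomial (Fin m) R'))]
    (Rψ' : Dual.D (MvPolynomial (Fin m) R') ⥤ Dual.D (R' ⊗[R] A)) (adj' : TD ψ'.toRingHom ⊣ Rψ')
    [DRing.HasLBaseChange (Algebra.TensorProduct.includeRight : A →ₐ[R] R' ⊗[R] A).toRingHom]
    [DRing.HasLBaseChange (algebraMap R R')] (K : Dual.D R) {c : ℤ}
    (hK : ∀ i : ℤ, i < c → Subsingleton (Dual.HD R K i)) :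
    Nonempty ((DRing.LBaseChange (Algebra.TensorProduct.includeRight : A →ₐ[R] R' ⊗[R] A).toRingHom).obj
        (Dual2.shriekVia n Rψ K) ≅
      Dual2.shriekVia m Rψ' ((DRing.LBaseChange (algebraMap R R')).obj K)) := by
  haveI := H4DR.TorAmp.hasLBaseChange (algebraMap R' (MvPolynomial (Fin n) R'))
  let φ := polyMap R R' n
  let φ' := (Algebra.TensorProduct.includeRight : A →ₐ[R] R' ⊗[R] A).toRingHom
  have hφ' : φ'.Flat := by
    letI : Algebra A (R' ⊗[R] A) := Algebra.TensorProduct.rightAlgebra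
    exact RingHom.flat_algebraMap_iff.2 (Module.Flat.of_linearEquiv
      ((Algebra.TensorProduct.commRight R A R').symm.toLinearEquiv))
  haveI := ModuleCat.preservesFiniteLimits_extendScalars_of_flat (polyMap_flat R R' n)
  haveI := ModuleCat.preservesFiniteLimits_extendScalars_of_flat hφ'
  obtain ⟨adjL⟩ := Groth.Agent.S12898.result (algebraMap R (MvPolynomial (Fin n) R))
  obtain ⟨adjL'⟩ := Groth.Agent.S12898.result (algebraMap R' (MvPolynomial (Fin n) R'))
  obtain ⟨adjR⟩ := Groth.Agent.S12898.result (algebraMap R R')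
  obtain ⟨adjA⟩ := Groth.Agent.S12898.result φ'
  haveI := isLeftAdjoint_TD (polyBC R R' n ψ).toRingHom
  let adjχ : TD (polyBC R R' n ψ).toRingHom ⊣ (TD (polyBC R R' n ψ).toRingHom).rightAdjoint :=
    Adjunction.ofIsLeftAdjoint _
  let Y := (DRing.LBaseChange (algebraMap R (MvPolynomial (Fin n) R))).obj K
  haveI : IsIso (theta (polyBC_sq R R' n ψ) (isCocart_polyBC R R' n ψ) adj adjχ Y) :=
    isIso_theta_of_finite _ _ (RingHom.Finite.of_surjective _ hψ) (polyMap_flat R R' n) hφ' adj adjχ Y
      (fun i hi => subsingleton_leftAdjoint (flat_mvPolynomial_C R n)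
        (adjL.ofNatIsoRight (eqToIso (congrArg TD (MvPolynomial.algebraMap_eq R (Fin n))))) (hK i hi))
  have hcomm : φ.comp (algebraMap R (MvPolynomial (Fin n) R)) =
      (algebraMap R' (MvPolynomial (Fin n) R')).comp (algebraMap R R') :=
    RingHom.ext fun r => by simp [φ, MvPolynomial.algebraMap_eq]
  let adj₁ : DRing.LBaseChange (algebraMap R (MvPolynomial (Fin n) R)) ⋙ GD φ ⊣
      TD (φ.comp (algebraMap R (MvPolynomial (Fin n) R))) :=
    (adjL.comp (gtAdj φ)).ofNatIsoRight (tdComp _ φ).symm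
  let adj₂ : DRing.LBaseChange (algebraMap R R') ⋙ DRing.LBaseChange (algebraMap R' (MvPolynomial (Fin n) R')) ⊣
      TD (φ.comp (algebraMap R (MvPolynomial (Fin n) R))) :=
    (adjR.comp adjL').ofNatIsoRight ((tdComp _ _).symm ≪≫ eqToIso (congrArg TD hcomm.symm))
  obtain ⟨j⟩ := shriekVia_independent R' n (polyBC R R' n ψ) (polyBC_surjective R R' n ψ hψ) _ adjχ m ψ'
    hψ' Rψ' adj' ((DRing.LBaseChange (algebraMap R R')).obj K)
  exact ⟨(adjA.leftAdjointUniq (gtAdj φ')).app _ ≪≫ ((GD φ').commShiftIso (n : ℤ)).app _ ≪≫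
    (shiftFunctor _ (n : ℤ)).mapIso
      (asIso (theta (polyBC_sq R R' n ψ) (isCocart_polyBC R R' n ψ) adj adjχ Y) ≪≫
        (TD (polyBC R R' n ψ).toRingHom).rightAdjoint.mapIso ((adj₁.leftAdjointUniq adj₂).app K)) ≪≫ j⟩

end Groth.Agent.H26Dual2
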