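import Groth.Agent.H26Dual2.Shriek
import Groth.Agent.H26Dual2.BcFinite
import Groth.Agent.H4DR.TorAmp.Exists

/-!
# Functoriality of the upper shriek
-/

set_option autoImplicit false
set_option linter.style.haveILetI false

universe u

open CategoryTheory CategoryTheory.Limits Pretriangulated Opposite TensorProduct

attribute [local instance] HasDerivedCategory.standard

namespace Groth.Agent.H26Dual2

lemma map_comp_C {P B σ : Type u} [CommRing P] [CommRing B] (ψ : P →+* B) :
    (MvPolynomial.map ψ : MvPolynomial σ P →+* MvPolynomial σ B).comp MvPolynomial.C =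
      MvPolynomial.C.comp ψ :=
  RingHom.ext fun p => MvPolynomial.map_C ψ p

lemma map_comp_C' {P B : Type u} [CommRing P] [CommRing B] (m : ℕ) (ψ : P →+* B) :
    (MvPolynomial.map ψ : MvPolynomial (Fin m) P →+* MvPolynomial (Fin m) B).comp MvPolynomial.C =
      MvPolynomial.C.comp ψ :=
  RingHom.ext fun p => MvPolynomial.map_C ψ p

/-- `B[y] = P[y] ⊗_P B`. -/
theorem isCocart_map {P B : Type u} [CommRing P] [CommRing B] (m : ℕ) (ψ : P →+* B) :
    IsCocart (map_comp_C' m ψ) := by
  let φ : P →+* MvPolynomial (Fin m) P := MvPolynomial.C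
  let T := (QP φ) ⊗[P] ((reF ψ).obj (ModuleCat.of B B))
  let hd : (Fin m →₀ ℕ) → B →+ T := fun d => AddMonoidHom.mk'
    (fun b => mkQP φ (MvPolynomial.monomial d 1) ⊗ₜ[P] mkA ψ b) fun b b' => TensorProduct.tmul_add _ _ _
  let g : MvPolynomial (Fin m) B →+ T :=
    (Finsupp.liftAddHom hd).comp (MvPolynomial.basisMonomials (Fin m) B).repr.toLinearMap.toAddMonoidHom
  have hg : ∀ d b, g (MvPolynomial.monomial d b) = hd d b := fun d b => by
    have : (MvPolynomial.basisMonomials (Fin m) B).repr (MvPolynomial.monomial d b) = Finsupp.single d b := by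
      have h1 : MvPolynomial.monomial d b = b • (MvPolynomial.basisMonomials (Fin m) B) d := by
        rw [MvPolynomial.coe_basisMonomials, MvPolynomial.smul_monomial, smul_eq_mul, mul_one]
      rw [h1, map_smul, Module.Basis.repr_self, Finsupp.smul_single, smul_eq_mul, mul_one]
    show Finsupp.liftAddHom hd ((MvPolynomial.basisMonomials (Fin m) B).repr (MvPolynomial.monomial d b)) = _
    rw [this, Finsupp.liftAddHom_apply_single]
  refine Function.bijective_iff_has_inverse.2 ⟨g, fun t => ?_, fun b => ?_⟩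
  · induction t using TensorProduct.induction_on with
    | zero => rw [map_zero, map_zero]
    | tmul q a =>
      show g (MvPolynomial.map ψ (toQ φ q) * MvPolynomial.C (toA a)) = q ⊗ₜ[P] a
      suffices h : ∀ p : MvPolynomial (Fin m) P,
          g (MvPolynomial.map ψ p * MvPolynomial.C (toA a)) = mkQP φ p ⊗ₜ[P] a from h (toQ φ q)
      intro p
      induction p using MvPolynomial.induction_on' with
      | monomial d c =>
        rw [MvPolynomial.map_monomial, mul_comm, MvPolynomial.C_mul_monomial, hg, mul_comm]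
        show mkQP φ (MvPolynomial.monomial d 1) ⊗ₜ[P] (c • a) = _
        rw [← TensorProduct.smul_tmul]
        refine congrArg (fun y : QP φ => y ⊗ₜ[P] a) ?_
        show MvPolynomial.C c * MvPolynomial.monomial d 1 = MvPolynomial.monomial d c
        rw [MvPolynomial.C_mul_monomial, mul_one]
      | add p p' hp hp' =>
        rw [map_add, add_mul, map_add, hp, hp']
        exact (TensorProduct.add_tmul _ _ _).symm
    | add u v hu hv => rw [map_add, map_add, hu, hv]
  · induction b using MvPolynomial.induction_on' with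
    | monomial d c =>
      rw [hg]
      show MvPolynomial.map ψ (MvPolynomial.monomial d 1) * MvPolynomial.C c = _
      rw [MvPolynomial.map_monomial, map_one, mul_comm, MvPolynomial.C_mul_monomial, mul_one]
    | add p p' hp hp' => rw [map_add, map_add, hp, hp']

variable {A B C : Type u} [CommRing A] [CommRing B] [CommRing C]

/-- Composition. -/
theorem shriekVia_comp [IsNoetherianRing A] [Algebra A B] [Algebra B C] [Algebra A C] [IsScalarTower A B C]
    (n : ℕ) (ψ : MvPolynomial (Fin n) A →ₐ[A] B) (hψ : Function.Surjective ψ)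
    [DRing.HasLBaseChange (algebraMap A (MvPolynomial (Fin n) A))]
    (Rψ : Dual.D (MvPolynomial (Fin n) A) ⥤ Dual.D B) (adj : TD ψ.toRingHom ⊣ Rψ) (m : ℕ)
    (χ : MvPolynomial (Fin m) B →ₐ[B] C) (hχ : Function.Surjective χ)
    [DRing.HasLBaseChange (algebraMap B (MvPolynomial (Fin m) B))]
    (Rχ : Dual.D (MvPolynomial (Fin m) B) ⥤ Dual.D C) (adjχ : TD χ.toRingHom ⊣ Rχ) (k : ℕ)
    (θ : MvPolynomial (Fin k) A →ₐ[A] C) (hθ : Function.Surjective θ)
    [DRing.HasLBaseChange (algebraMap A (MvPolynomial (Fin k) A))]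
    (Rθ : Dual.D (MvPolynomial (Fin k) A) ⥤ Dual.D C) (adjθ : TD θ.toRingHom ⊣ Rθ)
    (K : Dual.D A) {c : ℤ} (hK : ∀ i : ℤ, i < c → Subsingleton (Dual.HD A K i)) :
    Nonempty (Dual2.shriekVia k Rθ K ≅ Dual2.shriekVia m Rχ (Dual2.shriekVia n Rψ K)) := by
  obtain ⟨adjL⟩ := Groth.Agent.S12898.result (algebraMap A (MvPolynomial (Fin n) A))
  obtain ⟨adjLB⟩ := Groth.Agent.S12898.result (algebraMap B (MvPolynomial (Fin m) B))
  let φ : MvPolynomial (Fin n) A →+* MvPolynomial (Fin m) (MvPolynomial (Fin n) A) := MvPolynomial.C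
  let φ' : B →+* MvPolynomial (Fin m) B := MvPolynomial.C
  haveI := ModuleCat.preservesFiniteLimits_extendScalars_of_flat
    (flat_mvPolynomial_C (MvPolynomial (Fin n) A) m)
  haveI := ModuleCat.preservesFiniteLimits_extendScalars_of_flat (flat_mvPolynomial_C B m)
  let ψy : MvPolynomial (Fin m) (MvPolynomial (Fin n) A) →+* MvPolynomial (Fin m) B :=
    MvPolynomial.map ψ.toRingHom
  haveI := isLeftAdjoint_TD ψy
  let adjy : TD ψy ⊣ (TD ψy).rightAdjoint := Adjunction.ofIsLeftAdjoint (TD ψy)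
  let ω : MvPolynomial (Fin m) (MvPolynomial (Fin n) A) →+* C := χ.toRingHom.comp ψy
  -- the right hand side
  let Y : Dual.D (MvPolynomial (Fin n) A) :=
    ((DRing.LBaseChange (algebraMap A (MvPolynomial (Fin n) A))).obj K)⟦(n : ℤ)⟧
  let H := DRing.LBaseChange (algebraMap A (MvPolynomial (Fin n) A)) ⋙ GD φ
  let adjH : H ⊣ TD (φ.comp (algebraMap A (MvPolynomial (Fin n) A))) :=
    (adjL.comp (gtAdj φ)).ofNatIsoRight (tdComp (algebraMap A (MvPolynomial (Fin n) A)) φ).symm
  haveI : IsIso (theta (map_comp_C' m ψ.toRingHom) (isCocart_map m ψ.toRingHom) adj adjy Y) :=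
    isIso_theta_of_finite _ _ (RingHom.Finite.of_surjective _ hψ) (flat_mvPolynomial_C _ m)
      (flat_mvPolynomial_C B m) adj adjy Y
      (vanish_shift (n : ℤ) fun i hi => subsingleton_leftAdjoint (flat_mvPolynomial_C A n)
        (adjL.ofNatIsoRight (eqToIso (congrArg TD (MvPolynomial.algebraMap_eq A (Fin n))))) (hK i hi))
  let adjLB' : GD φ' ⊣ TD (algebraMap B (MvPolynomial (Fin m) B)) :=
    (gtAdj φ').ofNatIsoRight (eqToIso (congrArg TD (MvPolynomial.algebraMap_eq B (Fin m)).symm))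
  let s : ((GD φ).obj Y)⟦(m : ℤ)⟧ ≅ (H.obj K)⟦((m + n : ℕ) : ℤ)⟧ :=
    (shiftFunctor _ (m : ℤ)).mapIso (((GD φ).commShiftIso (n : ℤ)).app _) ≪≫
      ((shiftFunctorAdd' _ (n : ℤ) (m : ℤ) ((m + n : ℕ) : ℤ) (by push_cast; omega)).app _).symm
  let i : Dual2.shriekVia m Rχ (Dual2.shriekVia n Rψ K) ≅
      Rχ.obj ((TD ψy).rightAdjoint.obj ((H.obj K)⟦((m + n : ℕ) : ℤ)⟧)) :=
    (shiftRightAdjointIso adjχ (m : ℤ)).app _ ≪≫ Rχ.mapIso
      ((shiftFunctor _ (m : ℤ)).mapIso
          ((adjLB.leftAdjointUniq adjLB').app (Dual2.shriekVia n Rψ K) ≪≫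
            (GD φ').mapIso ((shiftRightAdjointIso adj (n : ℤ)).app _) ≪≫
            asIso (theta (map_comp_C' m ψ.toRingHom) (isCocart_map m ψ.toRingHom) adj adjy Y)) ≪≫
        (shiftRightAdjointIso adjy (m : ℤ)).app _ ≪≫ (TD ψy).rightAdjoint.mapIso s)
  let a : yoneda.obj (Dual2.shriekVia m Rχ (Dual2.shriekVia n Rψ K)) ≅
      (TD ω).op ⋙ yoneda.obj ((H.obj K)⟦((m + n : ℕ) : ℤ)⟧) :=
    yoneda.mapIso i ≪≫ ((adjχ.comp adjy).representableBy _).toIso ≪≫
      Functor.isoWhiskerRight (NatIso.op (tdComp ψy χ.toRingHom)) (yoneda.obj _)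
  -- a presentation on the left hand side
  let e : MvPolynomial (Fin (m + n)) A ≃ₐ[A] MvPolynomial (Fin m) (MvPolynomial (Fin n) A) :=
    (MvPolynomial.renameEquiv A finSumFinEquiv.symm).trans (MvPolynomial.sumAlgEquiv A (Fin m) (Fin n))
  have hωA : ω.comp (φ.comp (algebraMap A (MvPolynomial (Fin n) A))) = algebraMap A C := by
    refine RingHom.ext fun r => ?_
    simp [ω, ψy, φ, ← IsScalarTower.algebraMap_apply A B C]
  have he : e.toRingEquiv.toRingHom.comp (algebraMap A (MvPolynomial (Fin (m + n)) A)) =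
      φ.comp (algebraMap A (MvPolynomial (Fin n) A)) := RingHom.ext fun r => e.commutes r
  let θ' : MvPolynomial (Fin (m + n)) A →ₐ[A] C :=
    { ω.comp e.toRingEquiv.toRingHom with
      commutes' := fun r => (congrArg ω (DFunLike.congr_fun he r)).trans (DFunLike.congr_fun hωA r) }
  have hθ' : Function.Surjective θ' :=
    (hχ.comp (MvPolynomial.map_surjective _ hψ)).comp e.surjective
  haveI := H4DR.TorAmp.hasLBaseChange (algebraMap A (MvPolynomial (Fin (m + n)) A))
  obtain ⟨adjL'⟩ := Groth.Agent.S12898.result (algebraMap A (MvPolynomial (Fin (m + n)) A))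
  haveI := isLeftAdjoint_TD θ'.toRingHom
  let adj' : TD θ'.toRingHom ⊣ (TD θ'.toRingHom).rightAdjoint := Adjunction.ofIsLeftAdjoint _
  obtain ⟨j⟩ := shriekVia_independent A k θ hθ Rθ adjθ (m + n) θ' hθ' _ adj' K
  obtain ⟨b⟩ := presheafComparison (algebraMap A (MvPolynomial (Fin (m + n)) A)) e.toRingEquiv.toRingHom
    (RingHom.Flat.of_bijective e.bijective) _ he θ'.toRingHom ω rfl 0
    (shriekDual_of_bijective _ e.bijective ω) _ adjL' H adjH _ adj' ((m + n : ℕ) : ℤ) _ (add_zero _) K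
  exact ⟨j ≪≫ Yoneda.fullyFaithful.preimageIso (b ≪≫ a.symm)⟩

end Groth.Agent.H26Dual2
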